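import Cfsg.Agent.H70.GI.Local

/-!
A minimal configuration: simple, all proper subgroups containing good elements split; the subgroup
`A` of elements of order `p` central in `P` and the facts used by the character argument.
-/

set_option autoImplicit false
set_option linter.style.haveILetI false
set_option linter.unusedSectionVars false

open Subgroup Cfsg

namespace H70.GI

open H31.EXO H70

universe u

variable {G : Type u} [Group G] {p : ℕ}

/-- The elements of order dividing `p` central in `P`. -/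
def omegaC (P : Sylow p G) : Subgroup G where
  carrier := {x | x ∈ (P : Subgroup G) ∧ x ^ p = 1 ∧ ∀ y ∈ (P : Subgroup G), y * x = x * y}
  one_mem' := ⟨one_mem _, one_pow _, fun y _ => by rw [mul_one, one_mul]⟩
  mul_mem' := fun {a b} ha hb => ⟨mul_mem ha.1 hb.1, by
      rw [(show Commute a b from hb.2.2 a ha.1).mul_pow, ha.2.1, hb.2.1, one_mul],
    fun y hy => ((show Commute y a from ha.2.2 y hy).mul_right (hb.2.2 y hy)).eq⟩
  inv_mem' := fun {a} ha => ⟨inv_mem ha.1, by rw [inv_pow, ha.2.1, inv_one],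
    fun y hy => (show Commute y a from ha.2.2 y hy).inv_right.eq⟩

theorem mem_omegaC {P : Sylow p G} {x : G} :
    x ∈ omegaC P ↔ x ∈ (P : Subgroup G) ∧ x ^ p = 1 ∧ ∀ y ∈ (P : Subgroup G), y * x = x * y :=
  Iff.rfl

theorem omegaC_le (P : Sylow p G) : omegaC P ≤ (P : Subgroup G) := fun _ hx => hx.1

/-- The minimal configuration. -/
structure Ctx (p : ℕ) [Group G] (P : Sylow p G) : Prop where
  two_ne : p ≠ 2
  hy : Hy p G
  simple : IsSimpleGroup G
  noncomm : center G = ⊥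
  good : ∀ x ∈ omegaC P, x ≠ 1 → Good p x
  nontriv : omegaC P ≠ ⊥
  split : ∀ X : Subgroup G, X ≠ ⊤ → (∃ z ∈ X, Good p z) → Split p X

/-- A map into `A` congruent to conjugation modulo a `p'`-subgroup is bijective. -/
theorem exists_equiv [Finite G] [Fact p.Prime] {A K : Subgroup G} (hA : IsPGroup p A)
    (hK : (Nat.card K).Coprime p) {g : G}
    (hex : ∀ a : A, ∃ a' : A, g * a * g⁻¹ * (a' : G)⁻¹ ∈ K) :
    ∃ σ : A ≃ A, ∀ a : A, g * a * g⁻¹ * (σ a : G)⁻¹ ∈ K := by
  choose σ hσ using hex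
  have hinj : Function.Injective σ := by
    intro a b e
    have h1 := K.mul_mem (hσ a) (K.inv_mem (hσ b))
    rw [e, show g * (a : G) * g⁻¹ * (σ b : G)⁻¹ * (g * (b : G) * g⁻¹ * (σ b : G)⁻¹)⁻¹ =
      g * ((a : G) * (b : G)⁻¹) * g⁻¹ by group] at h1
    refine Subtype.ext (mul_inv_eq_one.1 ?_)
    have h2 : (g * ((a : G) * (b : G)⁻¹) * g⁻¹) ^ Nat.card K = 1 := by
      have h0 := congrArg Subtype.val (pow_card_eq_one' (x := (⟨_, h1⟩ : K)))
      rw [SubmonoidClass.coe_pow, Subgroup.coe_one] at h0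
      exact h0
    rw [conj_pow] at h2
    exact eq_one_of_coprime hA hK (A.mul_mem a.2 (A.inv_mem b.2)) (conj_eq_one_iff.1 h2)
  exact ⟨Equiv.ofBijective σ hinj.bijective_of_finite, hσ⟩

namespace Ctx

variable [Finite G] [Fact p.Prime] {P : Sylow p G}

theorem le_normalizer (P : Sylow p G) :
    normalizer ((P : Subgroup G) : Set G) ≤ normalizer (omegaC P : Set G) := by
  intro n hn
  rw [← cj_eq_self_iff]
  refine eq_of_cj_le ?_
  rintro _ ⟨x, ⟨hx1, hx2, hx3⟩, rfl⟩
  have hm : ∀ x, x ∈ (P : Subgroup G) ↔ n * x * n⁻¹ ∈ (P : Subgroup G) :=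
    fun x => mem_set_normalizer_iff.mp hn x
  refine ⟨(hm x).mp hx1, ?_, fun y hy => ?_⟩
  · simp only [MulEquiv.coe_toMonoidHom, MulAut.conj_apply]
    rw [conj_pow, hx2, mul_one, mul_inv_cancel]
  · have hy' : n⁻¹ * y * n ∈ (P : Subgroup G) := (hm _).mpr (by simpa [mul_assoc] using hy)
    have h := hx3 _ hy'
    simp only [MulEquiv.coe_toMonoidHom, MulAut.conj_apply]
    calc y * (n * x * n⁻¹) = n * (n⁻¹ * y * n * x) * n⁻¹ := by group
      _ = n * (x * (n⁻¹ * y * n)) * n⁻¹ := by rw [h]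
      _ = n * x * n⁻¹ * y := by group

theorem order_eq {x : G} (hx : x ∈ omegaC P) (h1 : x ≠ 1) : orderOf x = p :=
  orderOf_eq_prime hx.2.1 h1

theorem pow_ord {x : G} (hx : x ∈ omegaC P) : ∃ k : ℕ, orderOf x = p ^ k :=
  exists_pow_of_mem P.2 hx.1

variable (C : Ctx p P)
include C

/-- A conjugate in `P` of an element of `A` lies in `A`. -/
theorem mem_of_isConj {a x : G} (ha : a ∈ omegaC P) (hx : x ∈ (P : Subgroup G))
    (h : IsConj a x) : x ∈ omegaC P := by
  rcases eq_or_ne a 1 with rfl | h1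
  · rw [isConj_one_right] at h
    exact h ▸ one_mem _
  have hg := (C.good a ha h1).of_isConj h
  exact ⟨hx, by rw [← hg.1, pow_orderOf_eq_one], fun y hy => (hg.commute P.2 hx hy).eq⟩

/-- The stabiliser in `N(P)` of a non-trivial element of `A` centralises `A`. -/
theorem centralizes {n : G} (hn : n ∈ normalizer ((P : Subgroup G) : Set G)) {w : G}
    (hw : w ∈ omegaC P) (hw1 : w ≠ 1) (hnw : n * w = w * n) :
    n ∈ centralizer (omegaC P : Set G) := by
  have hle : (P : Subgroup G) ≤ centralizer ({w} : Set G) := fun x hx =>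
    mem_centralizer_singleton_iff.2 (hw.2.2 x hx)
  obtain ⟨K, -, hKp, hKn, hdec⟩ := exists_complement (C.hy.nil w (order_eq hw hw1)) P hle
  obtain ⟨r, hr, t, ht, rfl⟩ := hdec n (mem_centralizer_singleton_iff.2 hnw)
  have hrn : r ∈ normalizer ((P : Subgroup G) : Set G) := by
    rw [show r = r * t * t⁻¹ by group]
    exact mul_mem hn (inv_mem (Subgroup.le_normalizer ht))
  rw [mem_centralizer_iff]
  intro a ha
  have hcomm : a * r = r * a := by
    have h1 : a * r * a⁻¹ * r⁻¹ = 1 := by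
      refine eq_one_of_mem P.2 hKp ?_ (mul_mem ((mem_set_normalizer_iff.mp
        (hKn (hle ha.1)) r).mp hr) (inv_mem hr))
      rw [show a * r * a⁻¹ * r⁻¹ = a * (r * a⁻¹ * r⁻¹) by group]
      exact mul_mem ha.1 ((mem_set_normalizer_iff.mp hrn _).mp (inv_mem ha.1))
    calc a * r = a * r * a⁻¹ * r⁻¹ * (r * a) := by group
      _ = r * a := by rw [h1, one_mul]
  exact ((show Commute a r from hcomm).mul_right (show Commute a t from (ha.2.2 t ht).symm)).eq

/-- Fusion in `A` is induced by `N(P)`. -/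
theorem exists_normalizer {u v : G} (hu : u ∈ omegaC P) (hv : v ∈ omegaC P) (h : IsConj u v) :
    ∃ n ∈ normalizer ((P : Subgroup G) : Set G), n * u * n⁻¹ = v := by
  rcases eq_or_ne u 1 with rfl | h1
  · rw [isConj_one_right] at h
    exact ⟨1, one_mem _, by simp [h]⟩
  obtain ⟨g, rfl⟩ := isConj_iff.1 h
  have hv1 : g * u * g⁻¹ ≠ 1 := by rwa [Ne, conj_eq_one_iff]
  have hC : ∀ x ∈ (P : Subgroup G), x ∈ centralizer ({g * u * g⁻¹} : Set G) := fun x hx =>
    mem_centralizer_singleton_iff.2 (hv.2.2 x hx)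
  obtain ⟨c, hc, hle⟩ := exists_cj_le_sylow P (K := centralizer ({g * u * g⁻¹} : Set G)) hC
    (Q := cj g (P : Subgroup G)) (P.2.map _) (by
      rintro _ ⟨x, hx, rfl⟩
      exact mem_centralizer_singleton_iff.2
        ((show Commute x u from hu.2.2 x hx).map (MulAut.conj g).toMonoidHom).eq)
  rw [cj_cj] at hle
  refine ⟨c * g, cj_eq_self_iff.1 (eq_of_cj_le hle), ?_⟩
  rw [show c * g * u * (c * g)⁻¹ = c * (g * u * g⁻¹) * c⁻¹ by group,
    (show Commute c (g * u * g⁻¹) from mem_centralizer_singleton_iff.1 hc).eq, mul_inv_cancel_right]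

/-- The classes in `A` have the same size. -/
theorem card_class_eq {u : G} (hu : u ∈ omegaC P) (hu1 : u ≠ 1) :
    Nat.card {k : omegaC P // IsConj u (k : G)} =
      ((centralizer (omegaC P : Set G)).subgroupOf (normalizer ((P : Subgroup G) : Set G))).index := by
  set N := normalizer ((P : Subgroup G) : Set G) with hN
  have hmem : ∀ n : N, (n : G) * u * (n : G)⁻¹ ∈ omegaC P := fun n =>
    (mem_set_normalizer_iff.mp (le_normalizer P n.2) u).mp hu
  let f : N ⧸ ((centralizer (omegaC P : Set G)).subgroupOf N) → {k : omegaC P // IsConj u (k : G)} :=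
    Quotient.lift (fun n : N => ⟨⟨_, hmem n⟩, isConj_iff.2 ⟨n, rfl⟩⟩) fun n m hnm => by
      have h : (n : G)⁻¹ * (m : G) ∈ centralizer (omegaC P : Set G) :=
        ((QuotientGroup.leftRel_apply (s := (centralizer (omegaC P : Set G)).subgroupOf N)
          (x := n) (y := m)).1 hnm : n⁻¹ * m ∈ (centralizer (omegaC P : Set G)).subgroupOf N)
      have h2 := mem_centralizer_iff.1 h u hu
      refine Subtype.ext (Subtype.ext ?_)
      show (n : G) * u * (n : G)⁻¹ = (m : G) * u * (m : G)⁻¹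
      calc (n : G) * u * (n : G)⁻¹ = n * (u * ((n : G)⁻¹ * m)) * (m : G)⁻¹ := by group
        _ = n * ((n : G)⁻¹ * m * u) * (m : G)⁻¹ := by rw [h2]
        _ = (m : G) * u * (m : G)⁻¹ := by group
  rw [index, ← Nat.card_congr (Equiv.ofBijective f ⟨?_, ?_⟩)]
  · intro x y
    refine Quotient.inductionOn₂ x y fun n m h => ?_
    refine Quotient.sound (QuotientGroup.leftRel_apply.2 ?_)
    have h' : (n : G) * u * (n : G)⁻¹ = (m : G) * u * (m : G)⁻¹ :=
      congrArg (fun z : {k : omegaC P // IsConj u (k : G)} => ((z : omegaC P) : G)) h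
    refine C.centralizes (mul_mem (inv_mem n.2) m.2) hu hu1 ?_
    show (n : G)⁻¹ * m * u = u * ((n : G)⁻¹ * m)
    calc (n : G)⁻¹ * m * u = (n : G)⁻¹ * (m * u * (m : G)⁻¹) * m := by group
      _ = (n : G)⁻¹ * (n * u * (n : G)⁻¹) * m := by rw [h']
      _ = u * ((n : G)⁻¹ * m) := by group
  · rintro ⟨⟨k, hk⟩, hc⟩
    obtain ⟨n, hn, e⟩ := C.exists_normalizer hu hk hc
    exact ⟨Quotient.mk'' ⟨n, hn⟩, Subtype.ext (Subtype.ext e)⟩

/-- With classes of even size every element of `A` is conjugate to its inverse. -/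
theorem isConj_inv (h2 : 2 ∣
      ((centralizer (omegaC P : Set G)).subgroupOf (normalizer ((P : Subgroup G) : Set G))).index)
    {u : G} (hu : u ∈ omegaC P) : IsConj u u⁻¹ := by
  rcases eq_or_ne u 1 with rfl | hu1
  · simp
  set N := normalizer ((P : Subgroup G) : Set G) with hN
  set K := (centralizer (omegaC P : Set G)).subgroupOf N with hK
  haveI : K.Normal := by
    refine ⟨fun c hc n => ?_⟩
    rw [hK, mem_subgroupOf] at hc ⊢
    rw [mem_centralizer_iff] at hc ⊢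
    intro a ha
    have ha' : (n : G)⁻¹ * a * n ∈ omegaC P :=
      (mem_set_normalizer_iff.mp (le_normalizer P n.2) _).mpr (by simpa [mul_assoc] using ha)
    have h := hc _ ha'
    simp only [Subgroup.coe_mul, Subgroup.coe_inv]
    calc a * ((n : G) * c * (n : G)⁻¹) = n * ((n : G)⁻¹ * a * n * c) * (n : G)⁻¹ := by group
      _ = n * (c * ((n : G)⁻¹ * a * n)) * (n : G)⁻¹ := by rw [h]
      _ = n * c * (n : G)⁻¹ * a := by group
  haveI : Fact (Nat.Prime 2) := ⟨Nat.prime_two⟩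
  obtain ⟨x, hx⟩ := exists_prime_orderOf_dvd_card' 2 (G := N ⧸ K) h2
  obtain ⟨t, rfl⟩ := QuotientGroup.mk_surjective x
  have ht : (t : G) ∉ centralizer (omegaC P : Set G) := by
    intro h
    rw [(QuotientGroup.eq_one_iff t).2 h, orderOf_one] at hx
    omega
  have ht2 : ((t : G) * t) ∈ centralizer (omegaC P : Set G) := by
    have h : ((t * t : N) : N ⧸ K) = 1 := by
      rw [QuotientGroup.mk_mul, ← pow_two, ← hx, pow_orderOf_eq_one]
    exact ((QuotientGroup.eq_one_iff (N := K) (t * t)).1 h : (t * t : N) ∈ K)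
  have hmem : ∀ w ∈ omegaC P, (t : G) * w * (t : G)⁻¹ ∈ omegaC P := fun w hw =>
    (mem_set_normalizer_iff.mp (le_normalizer P t.2) w).mp hw
  set y := u * ((t : G) * u * (t : G)⁻¹) with hy
  have hyA : y ∈ omegaC P := mul_mem hu (hmem u hu)
  have hfix : (t : G) * y * (t : G)⁻¹ = y := by
    have e : (t : G) * ((t : G) * u * (t : G)⁻¹) * (t : G)⁻¹ = u := by
      calc (t : G) * ((t : G) * u * (t : G)⁻¹) * (t : G)⁻¹
          = ((t : G) * t) * u * ((t : G) * t)⁻¹ := by group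
        _ = u * ((t : G) * t) * ((t : G) * t)⁻¹ := by rw [mem_centralizer_iff.1 ht2 u hu]
        _ = u := mul_inv_cancel_right _ _
    have hc : u * ((t : G) * u * (t : G)⁻¹) = ((t : G) * u * (t : G)⁻¹) * u :=
      ((hmem u hu).2.2 u hu.1)
    calc (t : G) * y * (t : G)⁻¹
        = ((t : G) * u * (t : G)⁻¹) * ((t : G) * ((t : G) * u * (t : G)⁻¹) * (t : G)⁻¹) := by
          rw [hy]; group
      _ = ((t : G) * u * (t : G)⁻¹) * u := by rw [e]
      _ = y := hc.symm
  have hy1 : y = 1 := by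
    by_contra hy1
    refine ht (C.centralizes t.2 hyA hy1 ?_)
    calc (t : G) * y = (t : G) * y * (t : G)⁻¹ * t := by group
      _ = y * t := by rw [hfix]
  exact isConj_iff.2 ⟨t, eq_inv_of_mul_eq_one_right hy1⟩

/-- Two elements of order `p` generate a proper subgroup. -/
theorem pair_ne_top {w y : G} (hw : orderOf w = p) (hy : orderOf y = p) :
    closure ({w, y} : Set G) ≠ ⊤ := by
  intro h
  have h1 := C.hy.pair w y hw hy
  rw [h] at h1
  have hs : IsPSolvable p G := H10.isPSolvable_of_equiv h1 Subgroup.topEquiv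
  haveI := C.simple
  have hw1 : w ≠ 1 := fun e => (Fact.out : p.Prime).ne_one (by rw [← hw, e, orderOf_one])
  haveI : Nontrivial G := ⟨⟨w, 1, hw1⟩⟩
  rcases H10.pCore_or_pPrimeCore_ne_bot hs with h2 | h2
  · haveI := H1.pCore_normal' p G
    have h3 := (C.simple.eq_bot_or_eq_top_of_normal _ inferInstance).resolve_left h2
    have hG : IsPGroup p G :=
      (h3 ▸ H1.isPGroup_pCore p G : IsPGroup p (⊤ : Subgroup G)).of_equiv Subgroup.topEquiv
    haveI := IsPGroup.center_nontrivial hG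
    exact (Subgroup.nontrivial_iff_ne_bot _).1 this C.noncomm
  · exact h2 C.hy.core

/-- The product of an element of `A` and a conjugate. -/
theorem key {w k : G} (hw : w ∈ omegaC P) (hw1 : w ≠ 1) (hk : k ∈ omegaC P) (g : G) :
    ∃ k1 ∈ omegaC P, IsConj k k1 ∧ IsConj (H20.pPart p (w * (g * k * g⁻¹))) (w * k1) := by
  rcases eq_or_ne k 1 with rfl | hk1
  · refine ⟨1, one_mem _, IsConj.refl 1, ?_⟩
    rw [mul_one, mul_inv_cancel, mul_one, H20.pPart_eq_self (pow_ord hw)]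
  set y := g * k * g⁻¹ with hy
  have hky : IsConj k y := isConj_iff.2 ⟨g, rfl⟩
  have hgy : Good p y := (C.good k hk hk1).conj g
  set X := closure ({w, y} : Set G)
  have hwX : w ∈ X := subset_closure (by simp)
  have hyX : y ∈ X := subset_closure (by simp)
  have hX : X ≠ ⊤ := C.pair_ne_top (order_eq hw hw1) hgy.1
  obtain ⟨S, hSw, hSX, hSp, hS⟩ := C.split X hX ⟨w, hwX, C.good w hw hw1⟩ (zpowers w)
    (P.2.to_le (zpowers_le.2 hw.1)) (zpowers_le.2 hwX)
  have hyp : ∃ i : ℕ, orderOf y = p ^ i := ⟨1, by rw [pow_one]; exact hgy.1⟩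
  obtain ⟨o, ho, s, hs, e⟩ := hS y hyX hyp
  have hwS : w ∈ S := hSw (mem_zpowers w)
  obtain ⟨c, -, ec⟩ := coset_conj (coprime_coreIn X) (exists_pow_of_mem hSp hs)
    (le_normalizer_coreIn X (hSX hs)) ho (e ▸ hyp)
  have hys : IsConj y s := (isConj_iff.2 ⟨c, by rw [e, ec]⟩ : IsConj s y).symm
  obtain ⟨z, hz, hle⟩ := exists_cj_le_centralizing P hw.1 (C.good w hw hw1) hSp hwS
  have hsP : z * s * z⁻¹ ∈ (P : Subgroup G) := hle ⟨s, hs, rfl⟩
  have hsc : IsConj k (z * s * z⁻¹) := (hky.trans hys).trans (isConj_iff.2 ⟨z, rfl⟩)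
  refine ⟨_, C.mem_of_isConj hk hsP hsc, hsc, ?_⟩
  have hn := le_normalizer_coreIn (p := p) X
  obtain ⟨d, -, ed⟩ := coset_pPart (coprime_coreIn X) (exists_pow_of_mem hSp (mul_mem hwS hs))
    (hn (mul_mem hwX (hSX hs))) ((mem_set_normalizer_iff.mp (hn hwX) o).mp ho)
  rw [show w * y = w * o * w⁻¹ * (w * s) by rw [e]; group, ed]
  refine (isConj_iff.2 ⟨d, rfl⟩ : IsConj (w * s) _).symm.trans (isConj_iff.2 ⟨z, ?_⟩)
  calc z * (w * s) * z⁻¹ = z * w * z⁻¹ * (z * s * z⁻¹) := by group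
    _ = w * (z * s * z⁻¹) := by rw [hz, mul_inv_cancel_right]

/-- In a proper subgroup, a `p`-regular product lies in the core. -/
theorem reg_mem {X : Subgroup G} (hX : X ≠ ⊤) {w y : G} (hw : w ∈ omegaC P) (hw1 : w ≠ 1)
    (hwX : w ∈ X) (hyX : y ∈ X) (hyp : ∃ i : ℕ, orderOf y = p ^ i)
    (hr : ¬ p ∣ orderOf (w * y)) : w * y ∈ coreIn p X := by
  obtain ⟨S, hSw, hSX, hSp, hS⟩ := C.split X hX ⟨w, hwX, C.good w hw hw1⟩ (zpowers w)
    (P.2.to_le (zpowers_le.2 hw.1)) (zpowers_le.2 hwX)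
  obtain ⟨o, ho, s, hs, e⟩ := hS y hyX hyp
  have hwS : w ∈ S := hSw (mem_zpowers w)
  have hn := le_normalizer_coreIn (p := p) X
  have ho' := (mem_set_normalizer_iff.mp (hn hwX) o).mp ho
  obtain ⟨d, -, ed⟩ := coset_pPart (coprime_coreIn X) (exists_pow_of_mem hSp (mul_mem hwS hs))
    (hn (mul_mem hwX (hSX hs))) ho'
  rw [← show w * y = w * o * w⁻¹ * (w * s) by rw [e]; group, H20.pPart_eq_one_iff.2 hr,
    eq_comm, conj_eq_one_iff] at ed
  rw [show w * y = w * o * w⁻¹ * (w * s) by rw [e]; group, ed, mul_one]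
  exact ho'

/-- Conjugates of `A` in a proper subgroup containing `A` agree with `A` modulo the core. -/
theorem matching {X : Subgroup G} (hX : X ≠ ⊤) (hA : omegaC P ≤ X) {g : G}
    (hg : cj g (omegaC P) ≤ X) :
    ∃ σ : omegaC P ≃ omegaC P, ∀ a : omegaC P, g * a * g⁻¹ * (σ a : G)⁻¹ ∈ coreIn p X := by
  obtain ⟨a, ha1⟩ := (Subgroup.ne_bot_iff_exists_ne_one).1 C.nontriv
  have ha1' : (a : G) ≠ 1 := by simpa using ha1
  obtain ⟨S, hAS, hSX, hSp, hS⟩ := C.split X hX ⟨a, hA a.2, C.good a a.2 ha1'⟩ (omegaC P)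
    (P.2.to_le (omegaC_le P)) hA
  obtain ⟨z, hz, hle⟩ := exists_cj_le_sylow P (K := centralizer (omegaC P : Set G))
    (fun x hx => mem_centralizer_iff.2 fun b hb => (hb.2.2 x hx).symm) hSp
    (fun x hx => mem_centralizer_iff.2 fun b hb => by
      rcases eq_or_ne b 1 with rfl | hb1
      · simp
      · exact ((C.good b hb hb1).commute hSp (hAS hb) hx).symm.eq)
  have hn : ∀ x ∈ S, x ∈ normalizer (coreIn p X : Set G) := fun x hx =>
    le_normalizer_coreIn X (hSX hx)
  refine exists_equiv (P.2.to_le (omegaC_le P)) (coprime_coreIn X) fun b => ?_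
  have hbX : g * (b : G) * g⁻¹ ∈ X := hg ⟨b, b.2, rfl⟩
  have hbp : ∃ i : ℕ, orderOf (g * (b : G) * g⁻¹) = p ^ i := by
    rw [show g * (b : G) * g⁻¹ = (MulAut.conj g) (b : G) from rfl, MulEquiv.orderOf_eq]
    exact pow_ord b.2
  obtain ⟨o, ho, s, hs, e⟩ := hS _ hbX hbp
  obtain ⟨c, -, ec⟩ := coset_conj (coprime_coreIn X) (exists_pow_of_mem hSp hs) (hn s hs) ho
    (e ▸ hbp)
  have hsP : z * s * z⁻¹ ∈ (P : Subgroup G) := hle ⟨s, hs, rfl⟩
  have hsc : IsConj (b : G) (z * s * z⁻¹) :=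
    ((isConj_iff.2 ⟨g, rfl⟩ : IsConj (b : G) (g * b * g⁻¹)).trans
      (isConj_iff.2 ⟨c, by rw [e, ec]⟩ : IsConj s (g * (b : G) * g⁻¹)).symm).trans
      (isConj_iff.2 ⟨z, rfl⟩)
  have hk := C.mem_of_isConj b.2 hsP hsc
  have hcm := mem_centralizer_iff.1 hz _ hk
  have hs' : s = z * s * z⁻¹ := by
    calc s = z⁻¹ * (z * s * z⁻¹ * z) := by group
      _ = z⁻¹ * (z * (z * s * z⁻¹)) := by rw [hcm]
      _ = z * s * z⁻¹ := by group
  exact ⟨⟨s, hs' ▸ hk⟩, by rw [e, mul_inv_cancel_right]; exact ho⟩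

end Ctx

end H70.GI
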