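import Cfsg.Agent.H70.GI.Values
import Cfsg.Agent.H22.ValueMod

/-!
There is no minimal configuration.
-/

set_option autoImplicit false
set_option linter.style.haveILetI false
set_option linter.unusedSectionVars false

open Subgroup Cfsg
open scoped ComplexConjugate

namespace H70.GI.Ctx

open H31.EXO H70

universe u

variable {G : Type u} [Group G] [Fintype G] {p : ℕ} [Fact p.Prime] {M : Ideal AlgInt} [M.IsPrime]
  {P : Sylow p G} [Fintype (omegaC P)] [DecidableEq (omegaC P)]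

variable (C : Ctx p P)
include C

theorem orders : ∃ n : ℕ, 0 < n ∧ Nat.card (omegaC P) = p ^ n ∧
    Nat.card (omegaC P) ∣ Nat.card (P : Subgroup G) := by
  obtain ⟨n, hn⟩ := (IsPGroup.iff_card (p := p)).1 (P.2.to_le (omegaC_le P))
  refine ⟨n, Nat.pos_of_ne_zero fun h => C.nontriv ?_, hn, card_dvd_of_le (omegaC_le P)⟩
  rw [h, pow_zero] at hn
  exact Subgroup.eq_bot_of_card_eq _ hn

theorem ne_one_of_mem {w : omegaC P} (hw : w ∈ Finset.univ.erase (1 : omegaC P)) : (w : G) ≠ 1 :=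
  fun h => Finset.ne_of_mem_erase hw (Subtype.ext h)

/-- `N(P)` does not centralise `A`. -/
theorem ee_ne_one (hM : IsPModular p M) : ee P ≠ 1 := by
  classical
  intro he
  obtain ⟨a, ha⟩ := C.exists_ne_one'
  have haa : (a : G) * a ≠ 1 := fun h => by
    have h1 : orderOf (a : G) ∣ 2 := orderOf_dvd_of_pow_eq_one (by rw [pow_two, h])
    rw [order_eq a.2 ha] at h1
    exact C.two_ne ((Nat.prime_dvd_prime_iff_eq Fact.out Nat.prime_two).1 h1)
  set v : G := ((a : G) * a)⁻¹ with hv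
  set B := H22.blockFinset (principalBlock M G)
  have hfix : ∀ k ∈ omegaC P, IsConj (a : G) k → k = a := fun k hk hc => by
    have h := C.card_class_eq a.2 ha
    rw [show ((centralizer (omegaC P : Set G)).subgroupOf
      (normalizer ((P : Subgroup G) : Set G))).index = ee P from rfl, he] at h
    haveI : Subsingleton {x : omegaC P // IsConj (a : G) (x : G)} :=
      (Nat.card_eq_one_iff_unique.1 h).1
    exact congrArg (fun x : {x : omegaC P // IsConj (a : G) (x : G)} => ((x : omegaC P) : G))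
      (Subsingleton.elim (⟨⟨k, hk⟩, hc⟩ : {x : omegaC P // IsConj (a : G) (x : G)})
        ⟨a, IsConj.refl _⟩)
  have hg : ∀ g : G, ∑ χ ∈ B, (χ : G → ℂ) v * (χ : G → ℂ) ((a : G) * (g * a * g⁻¹)) =
      (Nat.card (P : Subgroup G) : ℂ) := fun g => by
    obtain ⟨k1, hk1, hc, hc2⟩ := C.key a.2 ha a.2 g
    rw [hfix k1 hk1 hc] at hc2
    rw [C.col hM (inv_mem (mul_mem a.2 a.2)) (inv_ne_one.2 haa) (mul_mem a.2 a.2) hc2,
      if_pos ⟨haa, by rw [inv_inv]⟩]
  have hone : ∑ χ ∈ B, (χ : G → ℂ) v * ((χ : G → ℂ) a * (χ : G → ℂ) a) / (χ : G → ℂ) 1 =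
      (Nat.card (P : Subgroup G) : ℂ) := by
    refine mul_left_cancel₀ (a := (Nat.card G : ℂ)) (Nat.cast_ne_zero.2 Nat.card_pos.ne') ?_
    calc (Nat.card G : ℂ) *
        ∑ χ ∈ B, (χ : G → ℂ) v * ((χ : G → ℂ) a * (χ : G → ℂ) a) / (χ : G → ℂ) 1
        = ∑ χ ∈ B, (χ : G → ℂ) v * ∑ g : G, (χ : G → ℂ) ((a : G) * (g * a * g⁻¹)) := by
          rw [Finset.mul_sum]
          exact Finset.sum_congr rfl fun χ _ => by rw [H12.irr_class_product]; ring
      _ = ∑ g : G, (Nat.card (P : Subgroup G) : ℂ) := by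
          rw [exch]; exact Finset.sum_congr rfl fun g _ => hg g
      _ = _ := by
          rw [Finset.sum_const, Finset.card_univ, nsmul_eq_mul, ← Nat.card_eq_fintype_card]
  have hsq : ∑ χ ∈ B, (χ : G → ℂ) ((a : G)⁻¹) * (χ : G → ℂ) a =
      (Nat.card (P : Subgroup G) : ℂ) := by
    rw [C.col hM (inv_mem a.2) (inv_ne_one.2 ha) (u := (a : G)) a.2
      (by rw [H20.pPart_eq_self (pow_ord a.2)]), if_pos ⟨ha, by rw [inv_inv]⟩]
  -- all terms are extremal
  have hterm : ∀ χ : IrrCharacter G,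
      ((χ : G → ℂ) v * ((χ : G → ℂ) a * (χ : G → ℂ) a) / (χ : G → ℂ) 1).re ≤
        ((χ : G → ℂ) ((a : G)⁻¹) * (χ : G → ℂ) a).re ∧
      (((χ : G → ℂ) v * ((χ : G → ℂ) a * (χ : G → ℂ) a) / (χ : G → ℂ) 1).re =
        ((χ : G → ℂ) ((a : G)⁻¹) * (χ : G → ℂ) a).re → (χ : G → ℂ) a ≠ 0 →
        ‖(χ : G → ℂ) v‖ = (H12.degree (χ : G → ℂ) : ℝ)) := by
    intro χ
    have hd := degree_pos' χ
    have hr : ((χ : G → ℂ) ((a : G)⁻¹) * (χ : G → ℂ) a).re = ‖(χ : G → ℂ) a‖ ^ 2 := by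
      rw [H12.irr_inv, ← Complex.normSq_eq_conj_mul_self, Complex.ofReal_re, Complex.normSq_eq_norm_sq]
    have hle : ((χ : G → ℂ) v * ((χ : G → ℂ) a * (χ : G → ℂ) a) / (χ : G → ℂ) 1).re ≤
        ‖(χ : G → ℂ) v‖ / (H12.degree (χ : G → ℂ) : ℝ) * ‖(χ : G → ℂ) a‖ ^ 2 := by
      refine (Complex.re_le_norm _).trans (le_of_eq ?_)
      rw [norm_div, norm_mul, norm_mul, H12.irr_apply_one, Complex.norm_natCast]
      ring
    have h1 : ‖(χ : G → ℂ) v‖ / (H12.degree (χ : G → ℂ) : ℝ) ≤ 1 :=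
      (div_le_one hd).2 (norm_le χ v)
    refine ⟨?_, fun e hne => le_antisymm (norm_le χ v) ?_⟩
    · rw [hr]
      exact hle.trans (mul_le_of_le_one_left (sq_nonneg _) h1)
    · rw [e, hr] at hle
      have h0 : (0 : ℝ) < ‖(χ : G → ℂ) a‖ ^ 2 := by
        have := norm_pos_iff.2 hne
        positivity
      have h2 : (1 : ℝ) ≤ ‖(χ : G → ℂ) v‖ / (H12.degree (χ : G → ℂ) : ℝ) := by
        by_contra hc
        nlinarith
      rwa [one_le_div hd] at h2
  have heq := (Finset.sum_eq_sum_iff_of_le fun χ (_ : χ ∈ B) => (hterm χ).1).1 (by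
    rw [← Complex.re_sum, ← Complex.re_sum, hone, hsq])
  obtain ⟨χ, hχB, hχ1, hχa⟩ : ∃ χ ∈ B, χ ≠ H12.oneIrr G ∧ (χ : G → ℂ) a ≠ 0 := by
    by_contra hne
    push Not at hne
    have h := weak hM (x := 1) (by rw [orderOf_one]; exact (Fact.out : p.Prime).not_dvd_one) a.2 ha
    rw [← Finset.add_sum_erase _ _ oneIrr_mem_block,
      Finset.sum_eq_zero fun χ hχ => by
        rw [hne χ (Finset.mem_of_mem_erase hχ) (Finset.ne_of_mem_erase hχ), mul_zero]] at h
    simp [H12.oneIrr_apply] at h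
  exact C.norm_ne hχ1 (by rw [hv]; exact inv_ne_one.2 haa) ((hterm χ).2 (heq χ hχB) hχa)

/-- Lower bound for the first moment. -/
theorem moment_one_ge (hM : IsPModular p M) {E : ℝ}
    (hE : ∀ g : G, ∀ w ∈ Finset.univ.erase (1 : omegaC P), (C.regCount w g : ℝ) ≤ E) :
    ((ee P : ℝ) * Nat.card (P : Subgroup G)) *
        (((Nat.card (omegaC P) : ℝ) - 1) * ((Nat.card (omegaC P) : ℝ) - E)) ≤
      ∑ χ ∈ H22.blockFinset (principalBlock M G), tv χ P ^ 2 * rho χ P := by
  have hG : (0 : ℝ) < (Nat.card G : ℝ) := Nat.cast_pos.2 Nat.card_pos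
  refine le_of_mul_le_mul_left ?_ hG
  rw [C.moment_one hM, Nat.cast_mul]
  calc (Nat.card G : ℝ) * (((ee P : ℝ) * Nat.card (P : Subgroup G)) *
        (((Nat.card (omegaC P) : ℝ) - 1) * ((Nat.card (omegaC P) : ℝ) - E)))
      = ((ee P : ℝ) * Nat.card (P : Subgroup G)) * ∑ _g : G,
          ∑ _w ∈ Finset.univ.erase (1 : omegaC P), ((Nat.card (omegaC P) : ℝ) - E) := by
        rw [Finset.sum_const, Finset.sum_const, Finset.card_univ, nsmul_eq_mul, nsmul_eq_mul,
          C.card_erase, ← Nat.card_eq_fintype_card]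
        ring
    _ ≤ _ := mul_le_mul_of_nonneg_left (Finset.sum_le_sum fun g _ => Finset.sum_le_sum fun w hw =>
        by linarith [hE g w hw]) (by positivity)

theorem moment_zero' (hM : IsPModular p M) :
    ∑ χ ∈ (H22.blockFinset (principalBlock M G)).erase (H12.oneIrr G), tv χ P ^ 2 =
      ((Nat.card (omegaC P) : ℝ) - 1) * ((ee P : ℝ) * Nat.card (P : Subgroup G)) -
        ((Nat.card (omegaC P) : ℝ) - 1) ^ 2 := by
  rw [Finset.sum_erase_eq_sub oneIrr_mem_block, C.moment_zero hM, (one_values (P := P)).2.1,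
    Nat.cast_mul]

theorem exists_neg (hM : IsPModular p M) :
    ∃ χ ∈ (H22.blockFinset (principalBlock M G)).erase (H12.oneIrr G),
      tv χ P < 0 ∧ rho χ P < 1 := by
  obtain ⟨n, hn0, hn, -⟩ := C.orders
  have hq : (1 : ℝ) < (Nat.card (omegaC P) : ℝ) := by
    rw [hn]; exact_mod_cast Nat.one_lt_pow hn0.ne' (Fact.out : p.Prime).one_lt
  have h := C.sum_tv_degree hM
  rw [← Finset.add_sum_erase _ _ oneIrr_mem_block, (one_values (P := P)).2.1,
    (one_values (P := P)).2.2.2, Nat.cast_one, mul_one] at h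
  obtain ⟨χ, hχ, hneg⟩ := Finset.exists_lt_of_sum_lt
    (s := (H22.blockFinset (principalBlock M G)).erase (H12.oneIrr G))
    (f := fun χ : IrrCharacter G => tv χ P * (H12.degree (χ : G → ℂ) : ℝ)) (g := fun _ => (0 : ℝ))
    (by rw [Finset.sum_const_zero]; linarith)
  have hd := degree_pos' χ
  have ht : tv χ P < 0 := by by_contra hc; nlinarith
  refine ⟨χ, hχ, ht, ?_⟩
  have h1 := rho_mul (P := P) χ
  nlinarith

/-- Strict upper bound for the first moment. -/
theorem moment_one_lt (hM : IsPModular p M) {c : ℝ} (hc1 : 1 ≤ c)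
    (hc : ∀ χ : IrrCharacter G, χ ≠ H12.oneIrr G → rho χ P ≤ c) :
    ∑ χ ∈ H22.blockFinset (principalBlock M G), tv χ P ^ 2 * rho χ P <
      ((Nat.card (omegaC P) : ℝ) - 1) ^ 2 * Nat.card (omegaC P) +
      c * (((Nat.card (omegaC P) : ℝ) - 1) * ((ee P : ℝ) * Nat.card (P : Subgroup G)) -
        ((Nat.card (omegaC P) : ℝ) - 1) ^ 2) := by
  obtain ⟨χ, hχ, ht, hr⟩ := C.exists_neg hM
  rw [← Finset.add_sum_erase _ _ oneIrr_mem_block, (one_values (P := P)).2.1,
    (one_values (P := P)).2.2.1, ← C.moment_zero' hM, Finset.mul_sum]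
  refine add_lt_add_of_le_of_lt le_rfl (Finset.sum_lt_sum (fun ψ hψ => ?_) ⟨χ, hχ, ?_⟩)
  · rw [mul_comm c]
    exact mul_le_mul_of_nonneg_left (hc ψ (Finset.ne_of_mem_erase hψ)) (sq_nonneg _)
  · have h0 : 0 < tv χ P ^ 2 := by nlinarith
    nlinarith

theorem strict_two (hM : IsPModular p M) {g : G} (htop : omegaC P ⊔ cj g (omegaC P) = ⊤) {E : ℝ}
    (hE : ∀ g : G, ∀ w ∈ Finset.univ.erase (1 : omegaC P), (C.regCount w g : ℝ) ≤ E) :
    (ee P : ℝ) * Nat.card (P : Subgroup G) * ((Nat.card (omegaC P) : ℝ) - 2 * E) <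
      (Nat.card (omegaC P) : ℝ) * ((Nat.card (omegaC P) : ℝ) - 1) := by
  obtain ⟨n, hn0, hn, -⟩ := C.orders
  have hq : (2 : ℝ) ≤ (Nat.card (omegaC P) : ℝ) := by
    rw [hn]; exact_mod_cast Nat.one_lt_pow hn0.ne' (Fact.out : p.Prime).one_lt
  have hub := C.moment_one_lt hM (c := (Nat.card (omegaC P) : ℝ) * (1 / 2)) (by linarith)
    fun χ hχ => rho_le_of (by
      have h : ((2 * mult χ P : ℕ) : ℝ) ≤ ((H12.degree (χ : G → ℂ) : ℕ) : ℝ) :=
        Nat.cast_le.2 (two_mult_le hχ htop)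
      push_cast at h
      linarith)
  have hlb := C.moment_one_ge hM hE
  set q : ℝ := (Nat.card (omegaC P) : ℝ)
  set X : ℝ := (ee P : ℝ) * Nat.card (P : Subgroup G)
  by_contra hcon
  push Not at hcon
  nlinarith [mul_le_mul_of_nonneg_left hcon (by linarith : (0 : ℝ) ≤ q - 1)]

/-- `A` and two of its conjugates. -/
theorem case_pair (hM : IsPModular p M) {g : G} (htop : omegaC P ⊔ cj g (omegaC P) = ⊤) :
    False := by
  classical
  obtain ⟨n, hn0, hn, hdvd⟩ := C.orders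
  have hp := (Fact.out : p.Prime)
  have hp2 := hp.two_le
  have hep := C.ee_pos
  have he1 := C.ee_ne_one hM
  obtain ⟨r, hr⟩ : ∃ r : ℕ, Nat.card (omegaC P) - 1 = r * ee P := ⟨_, C.card_sub_one⟩
  have hq3 : 3 ≤ Nat.card (omegaC P) := by
    rw [hn]
    have h1 := Nat.pow_le_pow_right (show 1 ≤ p by omega) hn0
    rw [pow_one] at h1
    have := C.two_ne
    omega
  have hCq : Nat.card (omegaC P) ≤ Nat.card (P : Subgroup G) := Nat.le_of_dvd Nat.card_pos hdvd
  have hr0 : 0 < r := Nat.pos_of_ne_zero fun h => by rw [h, zero_mul] at hr; omega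
  have hele : ee P ≤ Nat.card (omegaC P) - 1 := hr ▸ Nat.le_mul_of_pos_left _ hr0
  set q := Nat.card (omegaC P) with hqdef
  have hqr : (q : ℝ) = (r : ℝ) * (ee P : ℝ) + 1 := by
    have : q = r * ee P + 1 := by omega
    exact_mod_cast this
  have hCqR : (q : ℝ) ≤ (Nat.card (P : Subgroup G) : ℝ) := Nat.cast_le.2 hCq
  have heR : (2 : ℝ) ≤ (ee P : ℝ) := by exact_mod_cast (show 2 ≤ ee P by omega)
  have heR' : (ee P : ℝ) + 1 ≤ (q : ℝ) := by exact_mod_cast (show ee P + 1 ≤ q by omega)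
  -- the general consequence
  have hred : ∀ E : ℕ, 2 * E < q →
      (∀ g : G, ∀ w ∈ Finset.univ.erase (1 : omegaC P), C.regCount w g ≤ E) →
      (ee P : ℝ) * ((q : ℝ) - 2 * (E : ℝ)) < (q : ℝ) - 1 := by
    intro E hEq hE
    have h := C.strict_two hM htop (E := (E : ℝ)) fun g w hw => Nat.cast_le.2 (hE g w hw)
    have hpos : (0 : ℝ) < (q : ℝ) := by linarith
    have hnn : (0 : ℝ) ≤ (q : ℝ) - 2 * (E : ℝ) := by
      have : ((2 * E : ℕ) : ℝ) ≤ (q : ℝ) := Nat.cast_le.2 hEq.le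
      push_cast at this
      linarith
    refine lt_of_mul_lt_mul_left (lt_of_le_of_lt ?_ h) hpos.le
    nlinarith [mul_nonneg (mul_nonneg (by linarith : (0 : ℝ) ≤ (ee P : ℝ)) hnn)
      (sub_nonneg.2 hCqR)]
  rcases Nat.even_or_odd (ee P) with ⟨k, hk⟩ | hodd
  · have h := hred k (by omega) fun g w hw => by
      have := C.two_regCount_le ⟨k, by omega⟩ (C.ne_one_of_mem hw) g
      omega
    have hkR : (ee P : ℝ) = 2 * (k : ℝ) := by
      have : ee P = 2 * k := by omega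
      exact_mod_cast this
    rw [← hkR] at h
    nlinarith [mul_nonneg (by linarith : (0 : ℝ) ≤ (ee P : ℝ) - 1)
      (by linarith : (0 : ℝ) ≤ (q : ℝ) - 1 - (ee P : ℝ))]
  have he3 : 3 ≤ ee P := by
    rcases hodd with ⟨k, hk⟩
    omega
  have hqodd : q % 2 = 1 := by
    rw [hn]
    exact Nat.odd_iff.1 ((hp.odd_of_ne_two C.two_ne).pow)
  have hreven : r % 2 = 0 := by
    by_contra hc
    have h1 : (r * ee P) % 2 = 1 := by
      rw [Nat.mul_mod, Nat.odd_iff.1 hodd]
      omega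
    omega
  have hE : ∀ g : G, ∀ w ∈ Finset.univ.erase (1 : omegaC P), C.regCount w g ≤ ee P :=
    fun g w hw => C.regCount_le (C.ne_one_of_mem hw) g
  have h2e : 2 * ee P < q := by
    have := Nat.mul_le_mul_right (ee P) (show 2 ≤ r by omega)
    omega
  have hr2 : r = 2 := by
    by_contra hc
    have hr4 : (4 : ℝ) ≤ (r : ℝ) := by exact_mod_cast (show 4 ≤ r by omega)
    have h := hred _ h2e hE
    have he3' : (3 : ℝ) ≤ (ee P : ℝ) := by exact_mod_cast he3
    have h3 : ((r : ℝ) - 2) * (ee P : ℝ) < (r : ℝ) - 1 := by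
      by_contra hh
      push Not at hh
      nlinarith
    nlinarith
  have hq2 : q = 2 * ee P + 1 := by rw [hr2] at hr; omega
  have hp3 : p = 3 := by
    by_contra hc
    have hp5 : 5 ≤ p := by
      have := C.two_ne
      have : p ≠ 4 := fun h => by rw [h] at hp; norm_num at hp
      omega
    have h := hred (ee P / 2) (by omega) fun g w hw => by
      have := C.pow_regCount_le (C.ne_one_of_mem hw) g
      have h4 := Nat.mul_le_mul_right (C.regCount w g) (show 4 ≤ p - 1 by omega)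
      rw [← hqdef] at this
      omega
    have hE2 : 2 * ((ee P / 2 : ℕ) : ℝ) ≤ (ee P : ℝ) := by
      exact_mod_cast (show 2 * (ee P / 2) ≤ ee P by omega)
    have hqR : (q : ℝ) = 2 * (ee P : ℝ) + 1 := by exact_mod_cast hq2
    rw [hqR] at h
    nlinarith
  have hq27 : 27 ≤ q := by
    have hn3 : q = 3 ^ n := hn.trans (congrArg (· ^ n) hp3)
    rw [hn3] at hq2 ⊢
    rcases (show n = 1 ∨ n = 2 ∨ 3 ≤ n by omega) with rfl | rfl | h3
    · omega
    · obtain ⟨k, hk⟩ := hodd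
      omega
    · calc 27 = 3 ^ 3 := by norm_num
        _ ≤ 3 ^ n := Nat.pow_le_pow_right (by norm_num) h3
  have hqR : (q : ℝ) = 2 * (ee P : ℝ) + 1 := by exact_mod_cast hq2
  have hCeq : Nat.card (P : Subgroup G) = q := by
    obtain ⟨k, hk⟩ := hdvd
    have h := C.strict_two hM htop (E := (ee P : ℝ)) fun g w hw => Nat.cast_le.2 (hE g w hw)
    rw [hqR, show (2 * (ee P : ℝ) + 1 - 2 * (ee P : ℝ)) = 1 by ring, mul_one] at h
    have h' : ee P * Nat.card (P : Subgroup G) < (2 * ee P + 1) * (2 * ee P) := by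
      rw [add_sub_cancel_right] at h
      exact_mod_cast h
    have hk0 : k ≠ 0 := fun e => by
      rw [e, mul_zero] at hk
      exact Nat.card_pos.ne' hk
    rcases (show k = 1 ∨ 2 ≤ k by omega) with rfl | hk2
    · rw [hk, mul_one]
    · exfalso
      rw [hk, hq2] at h'
      nlinarith [Nat.mul_le_mul_left (ee P * (2 * ee P + 1)) hk2]
  choose s hs using C.exists_tv_eq
  have he0 : (0 : ℝ) < (ee P : ℝ) := by linarith
  have hsum : ∑ χ ∈ (H22.blockFinset (principalBlock M G)).erase (H12.oneIrr G), (s χ : ℝ) ^ 2 =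
      2 * (q : ℝ) - 4 := by
    refine mul_left_cancel₀ (pow_ne_zero 2 he0.ne') ?_
    rw [Finset.mul_sum]
    have h := C.moment_zero' hM
    rw [hCeq, ← hqdef] at h
    simp only [hs, mul_pow] at h
    rw [h, hqR]
    ring
  have hbound : ∀ χ ∈ (H22.blockFinset (principalBlock M G)).erase (H12.oneIrr G),
      tv χ P ^ 2 * rho χ P ≤ (ee P : ℝ) ^ 2 * (s χ : ℝ) ^ 2 * ((q : ℝ) / 3 + 1) := by
    intro χ hχ
    have hs2 : (s χ : ℝ) ^ 2 ≤ 2 * (q : ℝ) - 4 :=
      hsum ▸ Finset.single_le_sum (f := fun χ => (s χ : ℝ) ^ 2) (fun _ _ => sq_nonneg _) hχ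
    have hqR27 : (27 : ℝ) ≤ (q : ℝ) := by exact_mod_cast hq27
    have hsle : (s χ : ℝ) ≤ (q : ℝ) / 3 := by
      by_contra hh
      push Not at hh
      nlinarith
    rw [hs, mul_pow]
    refine mul_le_mul_of_nonneg_left ?_ (by positivity)
    rw [rho, div_le_iff₀ (degree_pos' χ)]
    have hd := degree_pos' χ
    have hm : ((2 * mult χ P : ℕ) : ℝ) ≤ ((H12.degree (χ : G → ℂ) : ℕ) : ℝ) :=
      Nat.cast_le.2 (two_mult_le (Finset.ne_of_mem_erase hχ) htop)
    push_cast at hm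
    have heq := hs χ
    rw [tv, ← hqdef] at heq
    rcases le_or_gt (s χ) 0 with h0 | h0
    · have h0R : (s χ : ℝ) ≤ 0 := by exact_mod_cast h0
      nlinarith
    · have h1 : (1 : ℝ) ≤ (s χ : ℝ) := by exact_mod_cast h0
      have h2 : (s χ : ℝ) + 1 ≤ 2 * (mult χ P : ℝ) := by
        have hlt : (s χ : ℝ) < 2 * (mult χ P : ℝ) := by
          by_contra hh
          push Not at hh
          nlinarith
        have hlt' : s χ < 2 * (mult χ P : ℤ) := by exact_mod_cast hlt
        exact_mod_cast hlt'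
      have h3 : (q : ℝ) * (mult χ P : ℝ) ≤ ((s χ : ℝ) + 1) * (H12.degree (χ : G → ℂ) : ℝ) := by
        have h4 : (ee P : ℝ) * ((s χ : ℝ) + 1) ≤ (q : ℝ) * (mult χ P : ℝ) := by
          nlinarith [mul_le_mul_of_nonneg_left h2 he0.le,
            mul_nonneg (Nat.cast_nonneg (α := ℝ) (mult χ P)) (by linarith : (0 : ℝ) ≤ (q : ℝ) - 2 * (ee P : ℝ))]
        nlinarith [mul_le_mul_of_nonneg_left h4 (by linarith : (0 : ℝ) ≤ (s χ : ℝ))]
      nlinarith [mul_le_mul_of_nonneg_right hsle hd.le]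
  have hlb := C.moment_one_ge hM (E := (ee P : ℝ)) fun g w hw => Nat.cast_le.2 (hE g w hw)
  rw [← Finset.add_sum_erase _ _ oneIrr_mem_block, (one_values (P := P)).2.1,
    (one_values (P := P)).2.2.1, hCeq, ← hqdef] at hlb
  have hub := Finset.sum_le_sum hbound
  rw [← Finset.sum_mul, ← Finset.mul_sum, hsum] at hub
  rw [hqR] at hlb hub
  have hqR27 : (27 : ℝ) ≤ 2 * (ee P : ℝ) + 1 := by rw [← hqR]; exact_mod_cast hq27
  have key : (2 * (ee P : ℝ) + 1) * (2 * (ee P : ℝ) + 2) ≤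
      4 * (2 * (ee P : ℝ) + 1) + (2 * (2 * (ee P : ℝ) + 1) - 4) * ((2 * (ee P : ℝ) + 1) / 3 + 1) :=
    le_of_mul_le_mul_left (a := (ee P : ℝ) ^ 2) (by nlinarith) (by positivity)
  nlinarith

/-- `A` and any conjugate generate a proper subgroup. -/
theorem case_proper (hM : IsPModular p M) (hpair : ∀ g : G, omegaC P ⊔ cj g (omegaC P) ≠ ⊤) :
    False := by
  classical
  obtain ⟨n, hn0, hn, hdvd⟩ := C.orders
  have hp := (Fact.out : p.Prime)
  have hq3 : 3 ≤ Nat.card (omegaC P) := by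
    rw [hn]
    have h1 := Nat.pow_le_pow_right hp.one_le hn0
    rw [pow_one] at h1
    have := C.two_ne
    have := hp.two_le
    omega
  have he2 : 2 ≤ ee P := by
    have := C.ee_pos
    have := C.ee_ne_one hM
    omega
  have heR : (2 : ℝ) ≤ (ee P : ℝ) := by exact_mod_cast he2
  have hqR : (3 : ℝ) ≤ (Nat.card (omegaC P) : ℝ) := by exact_mod_cast hq3
  have hCR : (Nat.card (omegaC P) : ℝ) ≤ (Nat.card (P : Subgroup G) : ℝ) :=
    Nat.cast_le.2 (Nat.le_of_dvd Nat.card_pos hdvd)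
  set q : ℝ := (Nat.card (omegaC P) : ℝ) with hqdef
  set X : ℝ := (ee P : ℝ) * Nat.card (P : Subgroup G) with hX
  have hXq : 2 * q ≤ X := by rw [hX]; nlinarith
  have hm1 : ∑ χ ∈ H22.blockFinset (principalBlock M G), tv χ P ^ 2 * rho χ P =
      X * ((q - 1) * (q - 1)) := by
    refine mul_left_cancel₀ (Nat.cast_ne_zero.2 Nat.card_pos.ne' : (Nat.card G : ℝ) ≠ 0) ?_
    rw [C.moment_one hM, Finset.sum_congr rfl fun g _ => Finset.sum_congr rfl fun (w : omegaC P) _ =>
      (by rw [C.regCount_eq_one (hpair g) w.2, Nat.cast_one] :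
        ((Nat.card (omegaC P) : ℝ) - (C.regCount w g : ℝ)) = q - 1)]
    rw [Finset.sum_const, Finset.sum_const, Finset.card_univ, nsmul_eq_mul, nsmul_eq_mul,
      C.card_erase, ← Nat.card_eq_fintype_card, Nat.cast_mul]
    ring
  by_cases hall : ∀ g h : G, omegaC P ⊔ cj g (omegaC P) ⊔ cj h (omegaC P) ≠ ⊤
  · have hm2 := C.moment_two hM hall
    rw [Nat.cast_mul, ← hX, ← hqdef] at hm2
    have hzero : ∀ χ ∈ (H22.blockFinset (principalBlock M G)).erase (H12.oneIrr G),
        tv χ P ^ 2 * rho χ P = 0 := by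
      have hpos : ∀ χ ∈ (H22.blockFinset (principalBlock M G)).erase (H12.oneIrr G),
          rho χ P < q := fun χ hχ => by
        rw [rho, div_lt_iff₀ (degree_pos' χ), ← hqdef]
        exact mul_lt_mul_of_pos_left (Nat.cast_lt.2 (C.mult_lt (Finset.ne_of_mem_erase hχ)))
          (by linarith)
      have h0 : ∑ χ ∈ (H22.blockFinset (principalBlock M G)).erase (H12.oneIrr G),
          tv χ P ^ 2 * rho χ P * (q - rho χ P) = 0 := by
        have e : ∀ χ : IrrCharacter G, tv χ P ^ 2 * rho χ P * (q - rho χ P) =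
            q * (tv χ P ^ 2 * rho χ P) - tv χ P ^ 2 * rho χ P ^ 2 := fun χ => by ring
        rw [Finset.sum_congr rfl fun χ _ => e χ, Finset.sum_sub_distrib, ← Finset.mul_sum,
          Finset.sum_erase_eq_sub oneIrr_mem_block, Finset.sum_erase_eq_sub oneIrr_mem_block,
          hm1, hm2, (one_values (P := P)).2.2.1, ← hqdef]
        ring
      intro χ hχ
      have h := (Finset.sum_eq_zero_iff_of_nonneg fun ψ hψ => mul_nonneg (mul_nonneg (sq_nonneg _)
        (rho_nonneg ψ)) (by linarith [hpos ψ hψ])).1 h0 χ hχ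
      exact (mul_eq_zero.1 h).resolve_right (by linarith [hpos χ hχ])
    rw [← Finset.add_sum_erase _ _ oneIrr_mem_block, Finset.sum_eq_zero hzero,
      (one_values (P := P)).2.1, (one_values (P := P)).2.2.1, ← hqdef] at hm1
    nlinarith [mul_pos (by linarith : (0 : ℝ) < q - 1) (by linarith : (0 : ℝ) < q - 1)]
  · push Not at hall
    obtain ⟨g, h, htop⟩ := hall
    have hc : ∀ χ : IrrCharacter G, χ ≠ H12.oneIrr G → rho χ P ≤ q * (2 / 3) := fun χ hχ =>
      rho_le_of (by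
        have h : ((3 * mult χ P : ℕ) : ℝ) ≤ ((2 * H12.degree (χ : G → ℂ) : ℕ) : ℝ) :=
          Nat.cast_le.2 (three_mult_le hχ htop)
        push_cast at h
        linarith)
    have hub := C.moment_one_lt hM (c := q * (2 / 3)) (by linarith) hc
    rw [hm1, ← hX, ← hqdef] at hub
    have h4 : X * (q - 3) < q * (q - 1) := by
      by_contra hh
      push Not at hh
      nlinarith [mul_le_mul_of_nonneg_left hh (by linarith : (0 : ℝ) ≤ q - 1)]
    have hlt5 : Nat.card (omegaC P) < 5 := by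
      by_contra hh
      have h5 : (5 : ℝ) ≤ q := by rw [hqdef]; exact_mod_cast (show 5 ≤ Nat.card (omegaC P) by omega)
      nlinarith [mul_le_mul_of_nonneg_right hXq (by linarith : (0 : ℝ) ≤ q - 3)]
    have hodd : Nat.card (omegaC P) % 2 = 1 := by
      rw [hn]
      exact Nat.odd_iff.1 ((hp.odd_of_ne_two C.two_ne).pow)
    have hq : Nat.card (omegaC P) = 3 := by omega
    obtain ⟨r, hr⟩ : ∃ r : ℕ, Nat.card (omegaC P) - 1 = r * ee P := ⟨_, C.card_sub_one⟩
    have he : ee P = 2 := by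
      have h5 : ee P ∣ 2 := ⟨r, by rw [mul_comm]; omega⟩
      have := Nat.le_of_dvd two_pos h5
      omega
    have hq' : q = 3 := by rw [hqdef, hq]; norm_num
    obtain ⟨χ, hχ, ht, hρ⟩ := C.exists_neg hM
    obtain ⟨s, hs⟩ := C.exists_tv_eq χ
    have hs1 : (s : ℝ) ≤ -1 := by
      have : (s : ℝ) < 0 := by nlinarith
      have : s < 0 := by exact_mod_cast this
      exact_mod_cast (show s ≤ -1 by omega)
    have hbig : (4 : ℝ) < tv χ P ^ 2 * (2 - rho χ P) := by
      have h4 : (4 : ℝ) ≤ tv χ P ^ 2 := by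
        rw [hs, he]; push_cast; nlinarith
      nlinarith
    have hsum : ∑ ψ ∈ (H22.blockFinset (principalBlock M G)).erase (H12.oneIrr G),
        tv ψ P ^ 2 * (2 - rho ψ P) = 4 := by
      simp only [mul_sub, Finset.sum_sub_distrib, ← Finset.sum_mul]
      rw [C.moment_zero' hM, Finset.sum_erase_eq_sub oneIrr_mem_block, hm1,
        (one_values (P := P)).2.1, (one_values (P := P)).2.2.1, ← hqdef, ← hX, hq']
      ring
    have hle := Finset.single_le_sum (f := fun ψ : IrrCharacter G => tv ψ P ^ 2 * (2 - rho ψ P))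
      (fun ψ hψ => mul_nonneg (sq_nonneg _) (by
        have := hc ψ (Finset.ne_of_mem_erase hψ)
        rw [hq'] at this
        linarith)) hχ
    rw [hsum] at hle
    linarith

end H70.GI.Ctx

namespace H70.GI

universe u

/-- There is no minimal configuration. -/
theorem Ctx.false {G : Type u} [Group G] [Finite G] {p : ℕ} [Fact p.Prime] {P : Sylow p G}
    (C : Ctx p P) : False := by
  classical
  haveI := Fintype.ofFinite G
  haveI : Fintype (omegaC P) := Fintype.ofFinite _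
  obtain ⟨M, hM⟩ := H22.exists_isPModular p Fact.out
  haveI : M.IsPrime := hM.2.1.isPrime
  by_cases h : ∃ g : G, omegaC P ⊔ H70.cj g (omegaC P) = ⊤
  · obtain ⟨g, hg⟩ := h
    exact C.case_pair hM hg
  · push Not at h
    exact C.case_proper hM h

end H70.GI
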