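import Cfsg.Agent.H31.ExtOdd.Setup
import Cfsg.Agent.H20.PPart
import Cfsg.Agent.H5.PResidual
import Cfsg.Agent.H10.PSolvable
import Cfsg.Agent.H70.Conj

/-!
Good elements of order `p` in groups in which centralisers of elements of order `p` have normal
`p`-complements: local facts.
-/

set_option autoImplicit false
set_option linter.style.haveILetI false
set_option linter.unusedSectionVars false

open Subgroup Cfsg
open scoped Pointwise

namespace H70.GI

open H31.EXO H70

universe u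

variable {G : Type u} [Group G] {p : ℕ}

/-- An element of order `p` whose conjugates are central in every `p`-subgroup containing them. -/
def Good (p : ℕ) (z : G) : Prop :=
  orderOf z = p ∧ ∀ (g : G) (Q : Subgroup G), IsPGroup p Q → g * z * g⁻¹ ∈ Q →
    ∀ y ∈ Q, Commute y (g * z * g⁻¹)

/-- The hypotheses inherited by the sections used. -/
structure Hy (p : ℕ) (G : Type u) [Group G] : Prop where
  core : pPrimeCore p G = ⊥
  nil : ∀ x : G, orderOf x = p → HasNormalPComplement p ↥(centralizer ({x} : Set G))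
  pair : ∀ x y : G, orderOf x = p → orderOf y = p → IsPSolvable p ↥(closure ({x, y} : Set G))

theorem Good.conj {z : G} (h : Good p z) (c : G) : Good p (c * z * c⁻¹) := by
  refine ⟨?_, fun g Q hQ hmem y hy => ?_⟩
  · rw [show c * z * c⁻¹ = (MulAut.conj c) z from rfl, MulEquiv.orderOf_eq]; exact h.1
  · have e : g * (c * z * c⁻¹) * g⁻¹ = (g * c) * z * (g * c)⁻¹ := by group
    rw [e] at hmem ⊢
    exact h.2 _ Q hQ hmem y hy

theorem Good.of_isConj {z x : G} (h : Good p z) (hc : IsConj z x) : Good p x := by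
  obtain ⟨c, rfl⟩ := isConj_iff.1 hc
  exact h.conj c

theorem Good.commute {z : G} (h : Good p z) {Q : Subgroup G} (hQ : IsPGroup p Q) (hz : z ∈ Q)
    {y : G} (hy : y ∈ Q) : Commute y z := by
  have h2 := h.2 1 Q hQ (by simpa using hz) y hy
  simpa using h2

theorem Good.ne_one [Fact p.Prime] {z : G} (h : Good p z) : z ≠ 1 := by
  rintro rfl
  exact (Fact.out : p.Prime).ne_one (h.1.symm.trans orderOf_one)

theorem isPGroup_zpowers_of {x : G} {k : ℕ} (h : orderOf x = p ^ k) : IsPGroup p (zpowers x) :=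
  IsPGroup.of_card (n := k) (by rw [Nat.card_zpowers, h])

theorem exists_pow_of_mem [Fact p.Prime] {Q : Subgroup G} (hQ : IsPGroup p Q) {x : G} (hx : x ∈ Q) :
    ∃ k : ℕ, orderOf x = p ^ k := by
  obtain ⟨k, hk⟩ := IsPGroup.iff_orderOf.mp hQ ⟨x, hx⟩
  exact ⟨k, by rwa [Subgroup.orderOf_mk] at hk⟩

theorem exists_pow_of_pow_eq [Fact p.Prime] {x : G} {i : ℕ} (h : x ^ p ^ i = 1) :
    ∃ k : ℕ, orderOf x = p ^ k := by
  obtain ⟨k, -, hk⟩ := (Nat.dvd_prime_pow Fact.out).mp (orderOf_dvd_of_pow_eq_one h)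
  exact ⟨k, hk⟩

/-- The `p`-part in a coset of a normalised `p'`-subgroup by a `p`-element. -/
theorem coset_pPart [Finite G] [Fact p.Prime] {K : Subgroup G} (hK : (Nat.card K).Coprime p)
    {s : G} (hs : ∃ k : ℕ, orderOf s = p ^ k) (hn : s ∈ normalizer (K : Set G)) {o : G}
    (ho : o ∈ K) : ∃ c ∈ K, H20.pPart p (o * s) = c * s * c⁻¹ := by
  obtain ⟨k, hk⟩ := hs
  obtain ⟨c, hc, y, hy, hsy, e⟩ := exists_conj_centralized hn
    (by rw [hk]; exact (hK.pow_right k).symm) ho
  refine ⟨c, hc, ?_⟩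
  have hy' : ¬ p ∣ orderOf y := fun h =>
    (Nat.Prime.coprime_iff_not_dvd Fact.out).1 hK.symm (h.trans (Subgroup.orderOf_dvd_natCard K hy))
  rw [e, H20.pPart_conj, ← (H20.isPPart_unique' rfl hsy ⟨k, hk⟩ hy').1]

/-- A `p`-element of such a coset is conjugate to the representative. -/
theorem coset_conj [Finite G] [Fact p.Prime] {K : Subgroup G} (hK : (Nat.card K).Coprime p)
    {s : G} (hs : ∃ k : ℕ, orderOf s = p ^ k) (hn : s ∈ normalizer (K : Set G)) {o : G}
    (ho : o ∈ K) (hp : ∃ k : ℕ, orderOf (o * s) = p ^ k) :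
    ∃ c ∈ K, o * s = c * s * c⁻¹ := by
  obtain ⟨c, hc, e⟩ := coset_pPart hK hs hn ho
  exact ⟨c, hc, (H20.pPart_eq_self hp).symm.trans e⟩

/-- The decomposition of a `p`-nilpotent centraliser containing a Sylow subgroup. -/
theorem exists_complement [Finite G] [Fact p.Prime] {C : Subgroup G}
    (hC : HasNormalPComplement p C) (P : Sylow p G) (hP : (P : Subgroup G) ≤ C) :
    ∃ K : Subgroup G, K ≤ C ∧ (Nat.card K).Coprime p ∧ C ≤ normalizer (K : Set G) ∧
      ∀ x ∈ C, ∃ r ∈ K, ∃ t ∈ (P : Subgroup G), x = r * t := by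
  refine ⟨(pResidual p C).map C.subtype, map_subtype_le _, ?_, ?_, fun x hx => ?_⟩
  · rw [card_map_of_injective C.subtype_injective]
    exact ((Nat.Prime.coprime_iff_not_dvd Fact.out).2
      (H5.hasNormalPComplement_iff_not_dvd.1 hC)).symm
  · have h := Subgroup.le_normalizer_map (H := pResidual p C) C.subtype
    rwa [Subgroup.normalizer_eq_top, ← MonoidHom.range_eq_map, Subgroup.range_subtype] at h
  · have hcomp := H5.pResidual_isComplement' hC (P.subtype hP)
    obtain ⟨r, hr, t, ht, e⟩ : (⟨x, hx⟩ : C) ∈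
        ((pResidual p C : Subgroup C) : Set C) * ((P.subtype hP : Subgroup C) : Set C) := by
      rw [hcomp.mul_eq]; exact Set.mem_univ _
    refine ⟨r, ⟨r, hr, rfl⟩, t, ?_, (congrArg Subtype.val e).symm⟩
    simpa [Sylow.coe_subtype, Subgroup.mem_subgroupOf] using ht

/-- An element of order `p` central in a Sylow subgroup and with all conjugates in a fixed
`P`-centralised set is good. -/
theorem good_of_forall [Finite G] [Fact p.Prime] (P : Sylow p G) {z : G} (hz : orderOf z = p)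
    (h : ∀ g : G, g * z * g⁻¹ ∈ (P : Subgroup G) → ∀ y ∈ (P : Subgroup G),
      Commute y (g * z * g⁻¹)) : Good p z := by
  refine ⟨hz, fun g Q hQ hmem y hy => ?_⟩
  obtain ⟨c, -, hc⟩ := exists_cj_le_sylow P (K := ⊤) le_top hQ le_top
  have h1 : c * (g * z * g⁻¹) * c⁻¹ ∈ (P : Subgroup G) := hc ⟨_, hmem, rfl⟩
  have h2 : c * y * c⁻¹ ∈ (P : Subgroup G) := hc ⟨_, hy, rfl⟩
  have h3 := h (c * g) (by rw [show c * g * z * (c * g)⁻¹ = c * (g * z * g⁻¹) * c⁻¹ by group]; exact h1)
    _ h2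
  rw [show c * g * z * (c * g)⁻¹ = c * (g * z * g⁻¹) * c⁻¹ by group] at h3
  exact Commute.of_map (f := (MulAut.conj c).toMonoidHom) (MulAut.conj c).injective h3

/-- Conjugation into `P` by elements centralising a good element. -/
theorem exists_cj_le_centralizing [Finite G] [Fact p.Prime] (P : Sylow p G) {w : G}
    (hwP : w ∈ (P : Subgroup G)) (hw : Good p w) {Q : Subgroup G} (hQ : IsPGroup p Q)
    (hwQ : w ∈ Q) : ∃ o : G, o * w = w * o ∧ cj o Q ≤ (P : Subgroup G) := by
  obtain ⟨o, ho, hle⟩ := exists_cj_le_sylow P (K := centralizer ({w} : Set G))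
    (fun x hx => mem_centralizer_singleton_iff.2 (hw.commute P.2 hwP hx).eq) hQ
    (fun x hx => mem_centralizer_singleton_iff.2 (hw.commute hQ hwQ hx).eq)
  exact ⟨o, mem_centralizer_singleton_iff.1 ho, hle⟩

/-- All elements of order `p` central in `P` are good, if one is. -/
theorem Hy.good_of_central [Finite G] [Fact p.Prime] (H : Hy p G) (P : Sylow p G) {a : G}
    (haP : a ∈ (P : Subgroup G)) (ha : Good p a) {z : G} (hz : orderOf z = p)
    (hzP : z ∈ (P : Subgroup G)) (hzc : ∀ y ∈ (P : Subgroup G), Commute y z) : Good p z := by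
  refine good_of_forall P hz fun g hmem => ?_
  set z' := g * z * g⁻¹ with hz'
  have hz'o : orderOf z' = p := by
    rw [hz', show g * z * g⁻¹ = (MulAut.conj g) z from rfl, MulEquiv.orderOf_eq]; exact hz
  let P' : Sylow p G := g • P
  have hP' : ((P' : Sylow p G) : Subgroup G) = cj g (P : Subgroup G) := by
    rfl
  have hcen : ∀ y ∈ cj g (P : Subgroup G), Commute y z' := by
    rintro _ ⟨x, hx, rfl⟩
    exact (hzc x hx).map (MulAut.conj g).toMonoidHom
  have hzmem : z' ∈ cj g (P : Subgroup G) := ⟨z, hzP, rfl⟩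
  have hC : cj g (P : Subgroup G) ≤ centralizer ({z'} : Set G) := fun x hx =>
    mem_centralizer_singleton_iff.2 (hcen x hx).eq
  obtain ⟨K, -, -, -, hdec⟩ := exists_complement (H.nil z' hz'o) P' (by rw [hP']; exact hC)
  -- a conjugate of `P'` centralising `a`
  have haC : a ∈ centralizer ({z'} : Set G) :=
    mem_centralizer_singleton_iff.2 (ha.commute P.2 haP hmem).symm.eq
  obtain ⟨c, hc, hle⟩ := exists_cj_le_sylow P' (K := centralizer ({z'} : Set G))
    (by rw [hP']; exact hC) (isPGroup_zpowers_of (k := 1) (by rw [pow_one]; exact ha.1))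
    (zpowers_le.2 haC)
  have hcz : Commute c z' := mem_centralizer_singleton_iff.1 hc
  set P'' := cj c⁻¹ (cj g (P : Subgroup G)) with hP''
  have ha'' : a ∈ P'' := by
    rw [hP'', mem_cj, inv_inv]
    have := hle ⟨a, mem_zpowers a, rfl⟩
    rwa [hP'] at this
  have hz'' : z' ∈ P'' := by
    rw [hP'', mem_cj, inv_inv, hcz.eq, mul_inv_cancel_right]; exact hzmem
  have hP''p : IsPGroup p P'' := ((P.2.map _).map _)
  have hcen'' : ∀ y ∈ P'', Commute y z' := by
    intro y hy
    rw [hP'', mem_cj, inv_inv] at hy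
    have h1 := hcen _ hy
    have e : c * z' * c⁻¹ = z' := by rw [hcz.eq, mul_inv_cancel_right]
    rw [← e] at h1
    exact Commute.of_map (f := (MulAut.conj c).toMonoidHom) (MulAut.conj c).injective h1
  -- compare it with `P` inside `C(a)`
  obtain ⟨O, hOle, hOp, hOn, hOdec⟩ := exists_complement (H.nil a ha.1) P
    fun x hx => mem_centralizer_singleton_iff.2 (ha.commute P.2 haP hx).eq
  obtain ⟨o, ho, hle'⟩ := exists_cj_le_sylow P (K := centralizer ({a} : Set G))
    (fun x hx => mem_centralizer_singleton_iff.2 (ha.commute P.2 haP hx).eq) hP''p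
    (fun x hx => mem_centralizer_singleton_iff.2 (ha.commute hP''p ha'' hx).eq)
  obtain ⟨r, hr, t, ht, e⟩ := hOdec _ (inv_mem ho)
  -- `o⁻¹ = r t`: then `r` centralises `z'`
  have hPo : cj o P'' = (P : Subgroup G) := by
    refine eq_of_le_of_card_ge hle' ?_
    rw [card_cj, hP'', card_cj, card_cj]
  have hP2 : P'' = cj r (P : Subgroup G) := by
    have h1 : P'' = cj o⁻¹ (P : Subgroup G) := cj_eq_iff.1 hPo
    rw [h1, e, ← cj_cj, cj_of_mem ht]
  have hrz : r⁻¹ * z' * r ∈ (P : Subgroup G) := by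
    rw [← mem_cj, ← hP2]; exact hz''
  have hzCa : z' ∈ centralizer ({a} : Set G) :=
    mem_centralizer_singleton_iff.2 (ha.commute P.2 haP hmem).eq
  have h1 : r⁻¹ * z' * r * z'⁻¹ = 1 := by
    refine eq_one_of_mem P.2 hOp (mul_mem hrz (inv_mem hmem)) ?_
    rw [show r⁻¹ * z' * r * z'⁻¹ = r⁻¹ * (z' * r * z'⁻¹) by group]
    exact mul_mem (inv_mem hr) ((mem_set_normalizer_iff.mp (hOn hzCa) r).mp hr)
  rw [mul_inv_eq_one] at h1
  intro y hy
  have hy2 : r * y * r⁻¹ ∈ P'' := by rw [hP2]; exact ⟨y, hy, rfl⟩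
  have h2 := hcen'' _ hy2
  have e2 : r * z' * r⁻¹ = z' := by
    conv_lhs => rw [← h1]
    group
  rw [← e2] at h2
  exact Commute.of_map (f := (MulAut.conj r).toMonoidHom) (MulAut.conj r).injective h2

/-- In `X` every `p`-element is, modulo `O_{p'}(X)`, in a given maximal `p`-subgroup. -/
def Split (p : ℕ) (X : Subgroup G) : Prop :=
  ∀ Q : Subgroup G, IsPGroup p Q → Q ≤ X → ∃ S : Subgroup G, Q ≤ S ∧ S ≤ X ∧ IsPGroup p S ∧
    ∀ y ∈ X, (∃ k : ℕ, orderOf y = p ^ k) → ∃ o ∈ coreIn p X, ∃ s ∈ S, y = o * s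

theorem split_of_normal [Finite G] [Fact p.Prime] {X : Subgroup G}
    (h : haveI := H1.pPrimeCore_normal' p X
      ∀ S : Sylow p (X ⧸ pPrimeCore p X), (S : Subgroup (X ⧸ pPrimeCore p X)).Normal) :
    Split p X := by
  intro Q hQ hQX
  haveI := H1.pPrimeCore_normal' p X
  obtain ⟨S, hS⟩ := (IsPGroup.of_equiv hQ (subgroupOfEquivOfLe hQX).symm).exists_le_sylow
  refine ⟨(S : Subgroup X).map X.subtype, fun q hq => ⟨⟨q, hQX hq⟩, hS hq, rfl⟩, map_subtype_le _,
    S.2.map _, fun y hy hyp => ?_⟩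
  set f := QuotientGroup.mk' (pPrimeCore p X) with hf
  let T : Sylow p (X ⧸ pPrimeCore p X) := S.mapSurjective (QuotientGroup.mk'_surjective _)
  haveI := h T
  have hmem : f ⟨y, hy⟩ ∈ (T : Subgroup (X ⧸ pPrimeCore p X)) := by
    obtain ⟨k, hk⟩ := hyp
    have hd : orderOf (f ⟨y, hy⟩) ∣ p ^ k := by
      refine (orderOf_map_dvd f _).trans ?_
      rw [Subgroup.orderOf_mk, hk]
    obtain ⟨i, -, hi⟩ := (Nat.dvd_prime_pow Fact.out).mp hd
    obtain ⟨R, hR⟩ := (isPGroup_zpowers_of hi).exists_le_sylow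
    haveI := Sylow.unique_of_normal T (h T)
    rw [Subsingleton.elim T R]
    exact hR (mem_zpowers _)
  rw [show (T : Subgroup (X ⧸ pPrimeCore p X)) = (S : Subgroup X).map f from
    Sylow.coe_mapSurjective _ _] at hmem
  obtain ⟨s, hs, hse⟩ := hmem
  refine ⟨y * (s : G)⁻¹, ⟨⟨y, hy⟩ * s⁻¹, ?_, rfl⟩, s, ⟨s, hs, rfl⟩, (inv_mul_cancel_right _ _).symm⟩
  refine (QuotientGroup.eq_one_iff _).1 ?_
  change f (⟨y, hy⟩ * s⁻¹) = 1
  rw [map_mul, map_inv, hse, mul_inv_cancel]

end H70.GI
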