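import Cfsg.Agent.H70.GI.Ctx
import Cfsg.Agent.H85.ZStarBlocks
import Cfsg.Agent.H12.Products
import Cfsg.Agent.H11.ColumnsNormalizer
import Cfsg.Agent.H22.SectionOrth
import Cfsg.Agent.H68.ExtClosed.FixedSpace

/-!
The moments of the values on `A` over the principal block.
-/

set_option autoImplicit false
set_option linter.style.haveILetI false
set_option linter.unusedSectionVars false

open Subgroup Cfsg
open scoped ComplexConjugate

namespace H70.GI.Ctx

open H31.EXO H70

universe u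

variable {G : Type u} [Group G] [Fintype G] {p : ℕ} [Fact p.Prime] {M : Ideal AlgInt} [M.IsPrime]
  {P : Sylow p G} [Fintype (omegaC P)] [DecidableEq (omegaC P)]

/-- The common size of the classes in `A#`. -/
noncomputable def ee (P : Sylow p G) : ℕ :=
  ((centralizer (omegaC P : Set G)).subgroupOf (normalizer ((P : Subgroup G) : Set G))).index

/-- The multiplicity of the trivial character of `A`. -/
noncomputable def mult (χ : IrrCharacter G) (P : Sylow p G) [Fintype (omegaC P)] : ℕ :=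
  (H68.EC.exists_sum_eq_card_mul (H12.isCharacter_irr χ) (omegaC P)).choose

/-- `|A| m - d`. -/
noncomputable def tv (χ : IrrCharacter G) (P : Sylow p G) [Fintype (omegaC P)] : ℝ :=
  (Nat.card (omegaC P) : ℝ) * (mult χ P : ℝ) - (H12.degree (χ : G → ℂ) : ℝ)

/-- `|A| m / d`. -/
noncomputable def rho (χ : IrrCharacter G) (P : Sylow p G) [Fintype (omegaC P)] : ℝ :=
  (Nat.card (omegaC P) : ℝ) * (mult χ P : ℝ) / (H12.degree (χ : G → ℂ) : ℝ)

theorem sum_all (χ : IrrCharacter G) :
    ∑ a : omegaC P, (χ : G → ℂ) a = (Nat.card (omegaC P) : ℂ) * (mult χ P : ℂ) :=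
  (H68.EC.exists_sum_eq_card_mul (H12.isCharacter_irr χ) (omegaC P)).choose_spec

theorem sum_erase (χ : IrrCharacter G) :
    ∑ v ∈ Finset.univ.erase (1 : omegaC P), (χ : G → ℂ) v = (tv χ P : ℂ) := by
  rw [Finset.sum_erase_eq_sub (Finset.mem_univ _), sum_all, OneMemClass.coe_one, H12.irr_apply_one, tv]
  push_cast
  ring

theorem rho_eq (χ : IrrCharacter G) :
    (rho χ P : ℂ) = (∑ a : omegaC P, (χ : G → ℂ) a) / (χ : G → ℂ) 1 := by
  rw [sum_all, H12.irr_apply_one, rho]
  push_cast
  rfl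

theorem weak (hM : IsPModular p M) {x v : G} (hx : ¬ p ∣ orderOf x) (hv : v ∈ omegaC P) (hv1 : v ≠ 1) :
    ∑ χ ∈ H22.blockFinset (principalBlock M G), (χ : G → ℂ) x * (χ : G → ℂ) v = 0 := by
  have hd : p ∣ orderOf v⁻¹ := by rw [orderOf_inv, order_eq hv hv1]
  have h0 := H20.weak_orthogonality hM (H20.isPBlock_principalBlock (M := M) (G := G))
    (x := x) (y := v⁻¹) hx hd
  rw [H22.finsum_mem_block] at h0
  refine Eq.trans (Finset.sum_congr rfl fun χ _ => ?_) h0
  rw [H12.irr_inv, Complex.conj_conj]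

/-- The class products of `A#` and `A`. -/
theorem prod_one (χ : IrrCharacter G) :
    ∑ g : G, ∑ w ∈ Finset.univ.erase (1 : omegaC P), ∑ k : omegaC P,
      (χ : G → ℂ) ((w : G) * (g * k * g⁻¹)) = (Nat.card G : ℂ) * ((tv χ P : ℂ) * (rho χ P : ℂ)) := by
  rw [Finset.sum_comm, rho_eq, ← sum_erase, Finset.sum_mul, Finset.mul_sum]
  refine Finset.sum_congr rfl fun w _ => ?_
  rw [Finset.sum_comm, Finset.sum_div, Finset.mul_sum, Finset.mul_sum]
  refine Finset.sum_congr rfl fun k _ => ?_
  rw [H12.irr_class_product]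
  ring

/-- The class products of `A#`, `A` and `A`. -/
theorem prod_two (χ : IrrCharacter G) :
    ∑ g : G, ∑ h : G, ∑ w ∈ Finset.univ.erase (1 : omegaC P), ∑ k : omegaC P, ∑ l : omegaC P,
      (χ : G → ℂ) ((w : G) * (g * k * g⁻¹) * (h * l * h⁻¹)) =
    (Nat.card G : ℂ) * ((Nat.card G : ℂ) * ((tv χ P : ℂ) * (rho χ P : ℂ) ^ 2)) := by
  have h1 : ∀ (g : G) (w k : omegaC P),
      ∑ h : G, ∑ l : omegaC P, (χ : G → ℂ) ((w : G) * (g * k * g⁻¹) * (h * l * h⁻¹)) =
      (χ : G → ℂ) ((w : G) * (g * k * g⁻¹)) * ((Nat.card G : ℂ) * (rho χ P : ℂ)) := by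
    intro g w k
    rw [Finset.sum_comm, rho_eq, Finset.sum_div, Finset.mul_sum, Finset.mul_sum]
    refine Finset.sum_congr rfl fun l _ => ?_
    rw [H12.irr_class_product]
    ring
  calc _ = ∑ g : G, ∑ w ∈ Finset.univ.erase (1 : omegaC P), ∑ k : omegaC P,
        ∑ h : G, ∑ l : omegaC P, (χ : G → ℂ) ((w : G) * (g * k * g⁻¹) * (h * l * h⁻¹)) := by
        refine Finset.sum_congr rfl fun g _ => ?_
        rw [Finset.sum_comm]
        exact Finset.sum_congr rfl fun w _ => Finset.sum_comm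
    _ = (∑ g : G, ∑ w ∈ Finset.univ.erase (1 : omegaC P), ∑ k : omegaC P,
        (χ : G → ℂ) ((w : G) * (g * k * g⁻¹))) * ((Nat.card G : ℂ) * (rho χ P : ℂ)) := by
        simp only [h1, Finset.sum_mul]
    _ = _ := by rw [prod_one]; ring

/-- Exchange of an outer sum with an inner one. -/
theorem exch {ι α : Type*} (s : Finset ι) (T : Finset α) (f : ι → ℂ) (F : ι → α → ℂ) :
    ∑ χ ∈ s, f χ * ∑ i ∈ T, F χ i = ∑ i ∈ T, ∑ χ ∈ s, f χ * F χ i := by
  simp only [Finset.mul_sum]
  exact Finset.sum_comm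

theorem sum_tv_mul (s : Finset (IrrCharacter G)) (F : IrrCharacter G → ℂ) :
    ∑ χ ∈ s, (tv χ P : ℂ) * F χ =
      ∑ v ∈ Finset.univ.erase (1 : omegaC P), ∑ χ ∈ s, (χ : G → ℂ) v * F χ := by
  simp only [← sum_erase, Finset.sum_mul]
  exact Finset.sum_comm

variable (C : Ctx p P)
include C

theorem cz_eq (hM : IsPModular p M) {u : G} (hu : u ∈ omegaC P) (hu1 : u ≠ 1) :
    ∑ᶠ ψ ∈ principalBlock M ↥(centralizer ({u} : Set G)),
      charDegree (ψ : ↥(centralizer ({u} : Set G)) → ℂ) ^ 2 = Nat.card (P : Subgroup G) := by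
  haveI : Fintype ↥(centralizer ({u} : Set G)) := Fintype.ofFinite _
  have hle : (P : Subgroup G) ≤ centralizer ({u} : Set G) := fun x hx =>
    mem_centralizer_singleton_iff.2 (hu.2.2 x hx)
  have hnil := C.hy.nil u (order_eq hu hu1)
  have h := H22.Sub.sum_sq_principal_of_complement hM (pResidual p ↥(centralizer ({u} : Set G)))
    (H5.hasNormalPComplement_iff_not_dvd.1 hnil) H5.exists_index_pResidual_eq
  rw [(H5.pResidual_isComplement' hnil (P.subtype hle)).symm.index_eq_card, Sylow.coe_subtype,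
    Nat.card_congr (subgroupOfEquivOfLe hle).toEquiv] at h
  refine Nat.cast_injective (R := ℂ) ?_
  rw [H22.finsum_mem_block, ← h]
  push_cast
  refine Finset.sum_congr rfl fun ψ _ => ?_
  rw [H22.irr_one_eq_charDegree, pow_two]

open Classical in
/-- The column at `v` against an element whose `p`-part is conjugate into `A`. -/
theorem col (hM : IsPModular p M) {v u x : G} (hv : v ∈ omegaC P) (hv1 : v ≠ 1) (hu : u ∈ omegaC P)
    (hx : IsConj (H20.pPart p x) u) :
    ∑ χ ∈ H22.blockFinset (principalBlock M G), (χ : G → ℂ) v * (χ : G → ℂ) x =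
      if u ≠ 1 ∧ IsConj u v⁻¹ then (Nat.card (P : Subgroup G) : ℂ) else 0 := by
  rcases eq_or_ne u 1 with rfl | hu1
  · rw [if_neg (fun h => h.1 rfl), ← weak hM (H20.pPart_eq_one_iff.1 (isConj_one_left.1 hx)) hv hv1]
    exact Finset.sum_congr rfl fun χ _ => mul_comm _ _
  · have hpo : orderOf (H20.pPart p x) = p := by
      obtain ⟨c, hc⟩ := isConj_iff.1 hx
      refine Eq.trans ?_ (order_eq hu hu1)
      rw [← hc, show c * H20.pPart p x * c⁻¹ = (MulAut.conj c) (H20.pPart p x) from rfl,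
        MulEquiv.orderOf_eq]
    have hq : H20.qPart p x ∈ centralizerPPrimeCore p (H20.pPart p x) := by
      have hnil := C.hy.nil _ hpo
      have hm : H20.qPart p x ∈ centralizer ({H20.pPart p x} : Set G) :=
        mem_centralizer_singleton_iff.2 (H20.commute_pPart_qPart x).symm.eq
      haveI := H1.pPrimeCore_normal' p ↥(centralizer ({H20.pPart p x} : Set G))
      refine ⟨⟨_, hm⟩, H1.le_pPrimeCore (N := pResidual p ↥(centralizer ({H20.pPart p x} : Set G)))
        ((Nat.Prime.coprime_iff_not_dvd Fact.out).2 (H5.hasNormalPComplement_iff_not_dvd.1 hnil)).symm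
        ((H5.mem_pResidual_iff hnil).2 ?_), rfl⟩
      rw [Subgroup.orderOf_mk]
      exact ((Nat.Prime.coprime_iff_not_dvd Fact.out).2 (H20.not_dvd_orderOf_qPart x)).symm
    have hval : ∀ χ ∈ H22.blockFinset (principalBlock M G), (χ : G → ℂ) x = (χ : G → ℂ) u := by
      intro χ hχ
      conv_lhs => rw [← H20.pPart_mul_qPart (p := p) x]
      rw [H85.irr_apply_mul_pPrimeCore hM ⟨1, by rw [pow_one, hpo]⟩ hq (H22.mem_blockFinset.1 hχ)]
      exact H12.IsClassFunction.of_isConj (H12.irr_isClassFunction χ) hx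
    have hord : ∃ k : ℕ, orderOf u⁻¹ = p ^ k := ⟨1, by rw [pow_one, orderOf_inv, order_eq hu hu1]⟩
    have h := H11.column_pair hM (u := u⁻¹) (v := v) hord (pow_ord hv)
    rw [H22.finsum_mem_block] at h
    rw [Finset.sum_congr rfl fun χ hχ => by rw [hval χ hχ]]
    refine (Finset.sum_congr rfl fun χ _ => ?_).trans (h.trans ?_)
    · rw [H12.irr_inv, Complex.conj_conj]
    · rw [C.cz_eq hM (inv_mem hu) (by simpa using hu1)]
      have : IsConj u⁻¹ v ↔ u ≠ 1 ∧ IsConj u v⁻¹ := by
        constructor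
        · intro hc
          obtain ⟨c, rfl⟩ := isConj_iff.1 hc
          exact ⟨hu1, isConj_iff.2 ⟨c, by group⟩⟩
        · rintro ⟨-, hc⟩
          obtain ⟨c, hc'⟩ := isConj_iff.1 hc
          exact isConj_iff.2 ⟨c, by rw [← inv_inv v, ← hc']; group⟩
      simp only [this]

open Classical in
theorem ee_eq {u : G} (hu : u ∈ omegaC P) (hu1 : u ≠ 1) :
    ((Finset.univ.erase (1 : omegaC P)).filter fun v : omegaC P => IsConj u (v : G)⁻¹).card = ee P := by
  rw [ee, ← C.card_class_eq hu hu1, Nat.card_eq_fintype_card, Fintype.card_subtype]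
  refine Finset.card_bij' (fun v _ => v⁻¹) (fun v _ => v⁻¹) ?_ ?_ (by simp) (by simp)
  · intro v hv
    simp only [Finset.mem_filter, Finset.mem_univ, true_and] at hv ⊢
    exact hv.2
  · intro v hv
    simp only [Finset.mem_filter, Finset.mem_univ, true_and, Finset.mem_erase, ne_eq, and_true,
      InvMemClass.coe_inv, inv_inv] at hv ⊢
    refine ⟨fun h => hu1 ?_, hv⟩
    rw [inv_eq_one] at h
    rw [h, OneMemClass.coe_one, isConj_one_left] at hv
    exact hv

open Classical in
theorem col_sum (hM : IsPModular p M) {u x : G} (hu : u ∈ omegaC P)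
    (hx : IsConj (H20.pPart p x) u) :
    ∑ v ∈ Finset.univ.erase (1 : omegaC P), ∑ χ ∈ H22.blockFinset (principalBlock M G),
        (χ : G → ℂ) v * (χ : G → ℂ) x =
      if p ∣ orderOf x then ((ee P * Nat.card (P : Subgroup G) : ℕ) : ℂ) else 0 := by
  have hcol := Finset.sum_congr rfl fun v (hv : v ∈ Finset.univ.erase (1 : omegaC P)) =>
    C.col hM v.2 (fun h => Finset.ne_of_mem_erase hv (Subtype.ext h)) hu hx
  rw [hcol]
  rcases eq_or_ne u 1 with rfl | hu1
  · rw [if_neg (H20.pPart_eq_one_iff.1 (isConj_one_left.1 hx))]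
    simp
  · rw [if_pos (not_not.1 fun h => hu1 (isConj_one_right.1
      (by rw [H20.pPart_eq_one_iff.2 h] at hx; exact hx)))]
    simp only [hu1, ne_eq, not_false_eq_true, true_and]
    rw [← Finset.sum_filter, Finset.sum_const, nsmul_eq_mul, C.ee_eq hu hu1, Nat.cast_mul]

theorem card_erase : ((Finset.univ.erase (1 : omegaC P)).card : ℝ) = (Nat.card (omegaC P) : ℝ) - 1 := by
  rw [Finset.card_erase_of_mem (Finset.mem_univ _), Finset.card_univ, ← Nat.card_eq_fintype_card,
    Nat.cast_sub (Nat.one_le_iff_ne_zero.2 Nat.card_pos.ne'), Nat.cast_one]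

/-- The zeroth moment. -/
theorem moment_zero (hM : IsPModular p M) :
    ∑ χ ∈ H22.blockFinset (principalBlock M G), tv χ P ^ 2 =
      ((Nat.card (omegaC P) : ℝ) - 1) * ((ee P * Nat.card (P : Subgroup G) : ℕ) : ℝ) := by
  rw [← C.card_erase]
  apply Complex.ofReal_injective
  push_cast
  simp only [← sum_erase, pow_two, Finset.sum_mul_sum]
  rw [Finset.sum_comm, ← nsmul_eq_mul, ← Finset.sum_const]
  refine Finset.sum_congr rfl fun w hw => ?_
  have hw1 : (w : G) ≠ 1 := fun h => Finset.ne_of_mem_erase hw (Subtype.ext h)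
  have h := C.col_sum hM (x := (w : G)) w.2 (by rw [H20.pPart_eq_self (pow_ord w.2)])
  rw [if_pos (by rw [order_eq w.2 hw1]), Nat.cast_mul] at h
  rw [← h, Finset.sum_comm]
  exact Finset.sum_congr rfl fun χ _ => Finset.sum_congr rfl fun v _ => mul_comm _ _

/-- The first moment is orthogonal to the degrees. -/
theorem sum_tv_degree (hM : IsPModular p M) :
    ∑ χ ∈ H22.blockFinset (principalBlock M G), tv χ P * (H12.degree (χ : G → ℂ) : ℝ) = 0 := by
  apply Complex.ofReal_injective
  push_cast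
  simp only [← sum_erase, Finset.sum_mul]
  rw [Finset.sum_comm]
  refine Finset.sum_eq_zero fun v hv => ?_
  refine Eq.trans (Finset.sum_congr rfl fun χ _ => ?_)
    (weak hM (x := 1) ?_ v.2 fun h => Finset.ne_of_mem_erase hv (Subtype.ext h))
  · rw [H12.irr_apply_one, mul_comm]
  · rw [orderOf_one]; exact (Fact.out : p.Prime).not_dvd_one

/-- The number of `k` with `w k^g` of order prime to `p`. -/
noncomputable def regCount (_C : Ctx p P) (w g : G) : ℕ :=
  ((Finset.univ : Finset (omegaC P)).filter fun k : omegaC P =>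
    ¬ p ∣ orderOf (w * (g * k * g⁻¹))).card

/-- The first weighted moment. -/
theorem moment_one (hM : IsPModular p M) :
    (Nat.card G : ℝ) * ∑ χ ∈ H22.blockFinset (principalBlock M G), tv χ P ^ 2 * rho χ P =
      ((ee P * Nat.card (P : Subgroup G) : ℕ) : ℝ) *
        ∑ g : G, ∑ w ∈ Finset.univ.erase (1 : omegaC P),
          ((Nat.card (omegaC P) : ℝ) - (C.regCount w g : ℝ)) := by
  have hsum : ∀ (g : G), ∀ w ∈ Finset.univ.erase (1 : omegaC P),
      ∑ k : omegaC P, ∑ v ∈ Finset.univ.erase (1 : omegaC P),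
        ∑ χ ∈ H22.blockFinset (principalBlock M G),
          (χ : G → ℂ) v * (χ : G → ℂ) ((w : G) * (g * k * g⁻¹)) =
      ((ee P * Nat.card (P : Subgroup G) : ℕ) : ℂ) *
        ((Nat.card (omegaC P) : ℂ) - (C.regCount w g : ℂ)) := by
    intro g w hw
    have hw1 : (w : G) ≠ 1 := fun h => Finset.ne_of_mem_erase hw (Subtype.ext h)
    have hk : ∀ k : omegaC P, ∑ v ∈ Finset.univ.erase (1 : omegaC P),
        ∑ χ ∈ H22.blockFinset (principalBlock M G),
          (χ : G → ℂ) v * (χ : G → ℂ) ((w : G) * (g * k * g⁻¹)) =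
        if p ∣ orderOf ((w : G) * (g * k * g⁻¹)) then
          ((ee P * Nat.card (P : Subgroup G) : ℕ) : ℂ) else 0 := fun k => by
      obtain ⟨k1, hk1, -, hc⟩ := C.key w.2 hw1 k.2 g
      exact C.col_sum hM (mul_mem w.2 hk1) hc
    rw [Finset.sum_congr rfl fun k _ => hk k, ← Finset.sum_filter, Finset.sum_const, nsmul_eq_mul,
      mul_comm]
    congr 1
    rw [eq_sub_iff_add_eq, regCount, ← Nat.cast_add, Finset.card_filter_add_card_filter_not,
      Finset.card_univ, Nat.card_eq_fintype_card]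
  apply Complex.ofReal_injective
  push_cast
  calc (Nat.card G : ℂ) * ∑ χ ∈ H22.blockFinset (principalBlock M G), (tv χ P : ℂ) ^ 2 * (rho χ P : ℂ)
      = ∑ χ ∈ H22.blockFinset (principalBlock M G), (tv χ P : ℂ) *
          ∑ g : G, ∑ w ∈ Finset.univ.erase (1 : omegaC P), ∑ k : omegaC P,
            (χ : G → ℂ) ((w : G) * (g * k * g⁻¹)) := by
        rw [Finset.mul_sum]
        exact Finset.sum_congr rfl fun χ _ => by rw [prod_one]; ring
    _ = ∑ g : G, ∑ w ∈ Finset.univ.erase (1 : omegaC P), ∑ k : omegaC P,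
          ∑ χ ∈ H22.blockFinset (principalBlock M G),
            (tv χ P : ℂ) * (χ : G → ℂ) ((w : G) * (g * k * g⁻¹)) := by
        rw [exch]
        refine Finset.sum_congr rfl fun g _ => ?_
        rw [exch]
        exact Finset.sum_congr rfl fun w _ => exch _ _ _ _
    _ = _ := by
        rw [Finset.mul_sum]
        refine Finset.sum_congr rfl fun g _ => ?_
        rw [Finset.mul_sum]
        refine Finset.sum_congr rfl fun w hw => ?_
        rw [← Nat.cast_mul, ← hsum g w hw]
        exact Finset.sum_congr rfl fun k _ => sum_tv_mul _ _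

/-- The matched products in a proper subgroup. -/
theorem matched {X : Subgroup G} (hA : omegaC P ≤ X) {w : G} (hw : w ∈ omegaC P) {o : G}
    (ho : o ∈ coreIn p X) : IsConj (H20.pPart p (o * w)) w := by
  obtain ⟨c, -, e⟩ := coset_pPart (coprime_coreIn X) (pow_ord hw) (le_normalizer_coreIn X (hA hw)) ho
  exact (isConj_iff.2 ⟨c, e.symm⟩ : IsConj w _).symm

theorem regCount_eq_one {g : G} (hg : omegaC P ⊔ cj g (omegaC P) ≠ ⊤) {w : G} (hw : w ∈ omegaC P) :
    C.regCount w g = 1 := by
  obtain ⟨σ, hσ⟩ := C.matching hg le_sup_left le_sup_right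
  have hiff : ∀ k : omegaC P, ¬ p ∣ orderOf (w * (g * k * g⁻¹)) ↔ k = σ.symm ⟨w, hw⟩⁻¹ := by
    intro k
    have hc : IsConj (H20.pPart p (w * (g * k * g⁻¹))) (w * (σ k : G)) := by
      rw [show w * (g * (k : G) * g⁻¹) =
        (w * (g * k * g⁻¹ * (σ k : G)⁻¹) * w⁻¹) * (w * (σ k : G)) by group]
      exact C.matched le_sup_left (mul_mem hw (σ k).2) ((mem_set_normalizer_iff.mp
        (le_normalizer_coreIn (p := p) _ (mem_sup_left hw)) _).mp (hσ k))
    rw [← H20.pPart_eq_one_iff, Equiv.eq_symm_apply]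
    constructor
    · intro h
      rw [h, isConj_one_right] at hc
      exact Subtype.ext (eq_inv_of_mul_eq_one_right hc)
    · intro h
      rw [h, InvMemClass.coe_inv, mul_inv_cancel, isConj_one_left] at hc
      exact hc
  rw [regCount, Finset.card_eq_one]
  refine ⟨σ.symm ⟨w, hw⟩⁻¹, ?_⟩
  ext k
  simp only [Finset.mem_filter, Finset.mem_univ, true_and, Finset.mem_singleton, hiff k]

/-- The second weighted moment when any three conjugates of `A` generate a proper subgroup. -/
theorem moment_two (hM : IsPModular p M)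
    (hall : ∀ g h : G, omegaC P ⊔ cj g (omegaC P) ⊔ cj h (omegaC P) ≠ ⊤) :
    ∑ χ ∈ H22.blockFinset (principalBlock M G), tv χ P ^ 2 * rho χ P ^ 2 =
      ((ee P * Nat.card (P : Subgroup G) : ℕ) : ℝ) * ((Nat.card (omegaC P) : ℝ) - 1) *
        ((Nat.card (omegaC P) : ℝ) * ((Nat.card (omegaC P) : ℝ) - 1)) := by
  have hgh : ∀ (g h : G), ∀ w ∈ Finset.univ.erase (1 : omegaC P),
      ∑ k : omegaC P, ∑ l : omegaC P, ∑ v ∈ Finset.univ.erase (1 : omegaC P),
        ∑ χ ∈ H22.blockFinset (principalBlock M G),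
          (χ : G → ℂ) v * (χ : G → ℂ) ((w : G) * (g * k * g⁻¹) * (h * l * h⁻¹)) =
      ((ee P * Nat.card (P : Subgroup G) : ℕ) : ℂ) *
        ((Nat.card (omegaC P) : ℂ) * ((Nat.card (omegaC P) : ℂ) - 1)) := by
    intro g h w _
    set X := omegaC P ⊔ cj g (omegaC P) ⊔ cj h (omegaC P)
    have hAX : omegaC P ≤ X := le_sup_left.trans le_sup_left
    obtain ⟨σ, hσ⟩ := C.matching (hall g h) hAX (g := g) (le_sup_right.trans le_sup_left)
    obtain ⟨τ, hτ⟩ := C.matching (hall g h) hAX (g := h) le_sup_right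
    have hk : ∀ k l : omegaC P, ∑ v ∈ Finset.univ.erase (1 : omegaC P),
        ∑ χ ∈ H22.blockFinset (principalBlock M G),
          (χ : G → ℂ) v * (χ : G → ℂ) ((w : G) * (g * k * g⁻¹) * (h * l * h⁻¹)) =
        if (w * σ k) * τ l = 1 then 0 else ((ee P * Nat.card (P : Subgroup G) : ℕ) : ℂ) := fun k l => by
      have hn := le_normalizer_coreIn (p := p) X
      have hc : IsConj (H20.pPart p ((w : G) * (g * k * g⁻¹) * (h * l * h⁻¹)))
          ((w * σ k * τ l : omegaC P) : G) := by
        rw [show (w : G) * (g * (k : G) * g⁻¹) * (h * (l : G) * h⁻¹) =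
          ((w : G) * (g * k * g⁻¹ * (σ k : G)⁻¹) * (w : G)⁻¹ *
            ((w * σ k : omegaC P) * (h * l * h⁻¹ * (τ l : G)⁻¹) * ((w * σ k : omegaC P) : G)⁻¹)) *
            ((w * σ k * τ l : omegaC P) : G) by simp only [Subgroup.coe_mul]; group]
        exact C.matched hAX (w * σ k * τ l).2
          (mul_mem ((mem_set_normalizer_iff.mp (hn (hAX w.2)) _).mp (hσ k))
            ((mem_set_normalizer_iff.mp (hn (hAX (w * σ k).2)) _).mp (hτ l)))
      rw [C.col_sum hM (w * σ k * τ l).2 hc]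
      by_cases h1 : w * σ k * τ l = 1
      · rw [if_pos h1, if_neg]
        rw [h1, OneMemClass.coe_one] at hc
        exact H20.pPart_eq_one_iff.1 (isConj_one_left.1 hc)
      · rw [if_neg h1, if_pos]
        refine not_not.1 fun h2 => h1 (Subtype.ext ?_)
        rw [H20.pPart_eq_one_iff.2 h2] at hc
        exact isConj_one_right.1 hc
    have hl : ∀ k : omegaC P, ∑ l : omegaC P,
        (if w * σ k * τ l = 1 then (0 : ℂ) else ((ee P * Nat.card (P : Subgroup G) : ℕ) : ℂ)) =
        ((ee P * Nat.card (P : Subgroup G) : ℕ) : ℂ) * ((Nat.card (omegaC P) : ℂ) - 1) := fun k => by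
      have he : ∀ l : omegaC P, (if w * σ k * τ l = 1 then (0 : ℂ) else
          ((ee P * Nat.card (P : Subgroup G) : ℕ) : ℂ)) = ((ee P * Nat.card (P : Subgroup G) : ℕ) : ℂ) -
          if l = τ.symm (w * σ k)⁻¹ then ((ee P * Nat.card (P : Subgroup G) : ℕ) : ℂ) else 0 := fun l => by
        have : w * σ k * τ l = 1 ↔ l = τ.symm (w * σ k)⁻¹ := by
          rw [mul_eq_one_iff_inv_eq, Equiv.eq_symm_apply, eq_comm]
        simp only [this]
        split_ifs <;> simp
      rw [Finset.sum_congr rfl fun l _ => he l, Finset.sum_sub_distrib, Fintype.sum_ite_eq',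
        Finset.sum_const, Finset.card_univ, nsmul_eq_mul, ← Nat.card_eq_fintype_card]
      ring
    rw [Finset.sum_congr rfl fun k _ => (Finset.sum_congr rfl fun l _ => hk k l).trans (hl k),
      Finset.sum_const, Finset.card_univ, nsmul_eq_mul, ← Nat.card_eq_fintype_card]
    ring
  apply Complex.ofReal_injective
  push_cast
  have hG : (Nat.card G : ℂ) ≠ 0 := Nat.cast_ne_zero.2 Nat.card_pos.ne'
  apply mul_left_cancel₀ hG
  apply mul_left_cancel₀ hG
  calc (Nat.card G : ℂ) * ((Nat.card G : ℂ) *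
        ∑ χ ∈ H22.blockFinset (principalBlock M G), (tv χ P : ℂ) ^ 2 * (rho χ P : ℂ) ^ 2)
      = ∑ χ ∈ H22.blockFinset (principalBlock M G), (tv χ P : ℂ) *
          ∑ g : G, ∑ h : G, ∑ w ∈ Finset.univ.erase (1 : omegaC P), ∑ k : omegaC P, ∑ l : omegaC P,
            (χ : G → ℂ) ((w : G) * (g * k * g⁻¹) * (h * l * h⁻¹)) := by
        rw [Finset.mul_sum, Finset.mul_sum]
        exact Finset.sum_congr rfl fun χ _ => by rw [prod_two]; ring
    _ = ∑ g : G, ∑ h : G, ∑ w ∈ Finset.univ.erase (1 : omegaC P),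
          ((ee P * Nat.card (P : Subgroup G) : ℕ) : ℂ) *
            ((Nat.card (omegaC P) : ℂ) * ((Nat.card (omegaC P) : ℂ) - 1)) := by
        rw [exch]
        refine Finset.sum_congr rfl fun g _ => ?_
        rw [exch]
        refine Finset.sum_congr rfl fun h _ => ?_
        rw [exch]
        refine Finset.sum_congr rfl fun w hw => ?_
        rw [← hgh g h w hw, exch]
        refine Finset.sum_congr rfl fun k _ => ?_
        rw [exch]
        exact Finset.sum_congr rfl fun l _ => sum_tv_mul _ _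
    _ = _ := by
        have hcard : ((Finset.univ.erase (1 : omegaC P)).card : ℂ) = (Nat.card (omegaC P) : ℂ) - 1 := by
          exact_mod_cast congrArg (fun r : ℝ => (r : ℂ)) C.card_erase
        simp only [Finset.sum_const, Finset.card_univ, nsmul_eq_mul, ← Nat.card_eq_fintype_card,
          hcard, Nat.cast_mul]
        ring

end H70.GI.Ctx
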