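import Cfsg.Agent.H70.GI.Final
import Cfsg.Agent.H30.Basic

/-!
The odd case of the classification of groups with fusion controlled by a Sylow normaliser,
`p`-nilpotent centralisers and `p`-soluble pairs.
-/

set_option autoImplicit false
set_option linter.style.haveILetI false
set_option linter.unusedSectionVars false

open Subgroup Cfsg

namespace H70.GI

open H31.EXO H70

universe u

variable {G : Type u} [Group G] {p : ℕ}

theorem image_mem_cj {a : G} {A : Subgroup G} (ha : a ∈ A) (g : G) : g * a * g⁻¹ ∈ cj g A :=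
  ⟨a, ha, rfl⟩

/-- A `p`-element lifts to a `p`-element. -/
theorem exists_lift [Finite G] [Fact p.Prime] {H : Type u} [Group H] [Finite H] {f : G →* H}
    (hf : Function.Surjective f) {y : H} (hy : ∃ k : ℕ, orderOf y = p ^ k) :
    ∃ x : G, (∃ k : ℕ, orderOf x = p ^ k) ∧ f x = y := by
  obtain ⟨g, rfl⟩ := hf y
  refine ⟨H20.pPart p g, H20.exists_orderOf_pPart g, ?_⟩
  have hq : ¬ p ∣ orderOf (f (H20.qPart p g)) := fun h =>
    H20.not_dvd_orderOf_qPart g (h.trans (orderOf_map_dvd f _))
  obtain ⟨k, hk⟩ := H20.exists_orderOf_pPart (p := p) g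
  obtain ⟨i, -, hi⟩ := (Nat.dvd_prime_pow Fact.out).mp (hk ▸ orderOf_map_dvd f (H20.pPart p g))
  have hu := H20.isPPart_unique' (p := p) (g := f g) (x := f (H20.pPart p g))
    (y := f (H20.qPart p g)) (by rw [← map_mul, H20.pPart_mul_qPart])
    ((H20.commute_pPart_qPart g).map f) ⟨i, hi⟩ hq
  rw [hu.1, H20.pPart_eq_self hy]

theorem pow_eq_one_of_map_eq_one [Finite G] [Fact p.Prime] {H : Type u} [Group H] {f : G →* H}
    (hK : (Nat.card f.ker).Coprime p) {s : G} (hs : ∃ k : ℕ, orderOf s = p ^ k) (h : f s = 1) :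
    s = 1 := by
  obtain ⟨k, hk⟩ := hs
  exact eq_one_of_mem (isPGroup_zpowers_of hk) hK (mem_zpowers s) (MonoidHom.mem_ker.2 h)

/-- A lift of the same order. -/
theorem exists_lift_order [Finite G] [Fact p.Prime] {H : Type u} [Group H] [Finite H] {f : G →* H}
    (hf : Function.Surjective f) (hK : (Nat.card f.ker).Coprime p) {y : H} (hy : orderOf y = p) :
    ∃ x : G, orderOf x = p ∧ f x = y := by
  obtain ⟨x, ⟨k, hk⟩, rfl⟩ := exists_lift hf (p := p) (y := y) ⟨1, by rw [hy, pow_one]⟩
  refine ⟨x, orderOf_eq_prime ?_ ?_, rfl⟩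
  · refine pow_eq_one_of_map_eq_one hK ?_ (by rw [map_pow, orderOf_dvd_iff_pow_eq_one.1 hy.dvd])
    obtain ⟨i, -, hi⟩ := (Nat.dvd_prime_pow Fact.out).mp (hk ▸ orderOf_pow_dvd p (x := x))
    exact ⟨i, hi⟩
  · intro e
    rw [e, map_one, orderOf_one] at hy
    exact (Fact.out : p.Prime).ne_one hy.symm

theorem pair_solvable_sub [Fact p.Prime] (hH : Hy p G) (X : Subgroup G) {x y : X}
    (hx : orderOf x = p) (hy : orderOf y = p) : IsPSolvable p ↥(closure ({x, y} : Set X)) := by
  have h := hH.pair x y (by rwa [Subgroup.orderOf_coe]) (by rwa [Subgroup.orderOf_coe])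
  have e : (closure ({x, y} : Set X)).map X.subtype = closure ({(x : G), (y : G)} : Set G) := by
    rw [MonoidHom.map_closure, Set.image_pair]; rfl
  rw [← e] at h
  exact H10.isPSolvable_of_equiv h (equivMapOfInjective _ X.subtype X.subtype_injective).symm

theorem nil_sub [Finite G] [Fact p.Prime] (hH : Hy p G) (X : Subgroup G) {x : X}
    (hx : orderOf x = p) : HasNormalPComplement p ↥(centralizer ({x} : Set X)) := by
  let φ : ↥(centralizer ({x} : Set X)) →* ↥(centralizer ({(x : G)} : Set G)) :=
    (X.subtype.comp (centralizer ({x} : Set X)).subtype).codRestrict _ fun c =>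
      mem_centralizer_singleton_iff.2 (congrArg Subtype.val (mem_centralizer_singleton_iff.1 c.2))
  refine H5.hasNormalPComplement_of_injective φ ?_ (hH.nil x (by rwa [Subgroup.orderOf_coe]))
  intro a b e
  exact Subtype.ext (Subtype.ext (congrArg (fun t : centralizer ({(x : G)} : Set G) => (t : G)) e))

theorem Hy.normal_sub [Finite G] [Fact p.Prime] (hH : Hy p G) (N : Subgroup G) [N.Normal] :
    Hy p N := by
  refine ⟨?_, fun x hx => nil_sub hH N hx, fun x y hx hy => pair_solvable_sub hH N hx hy⟩
  haveI := H1.pPrimeCore_normal' p N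
  haveI := H1.pPrimeCore_characteristic p N
  haveI : ((pPrimeCore p N).map N.subtype).Normal :=
    H1.map_subtype_normal_of_characteristic N (pPrimeCore p N)
  have h : (pPrimeCore p N).map N.subtype ≤ pPrimeCore p G := H1.le_pPrimeCore (by
    rw [card_map_of_injective N.subtype_injective]; exact H1.card_pPrimeCore_coprime p N)
  rw [hH.core, le_bot_iff, map_eq_bot_iff_of_injective _ N.subtype_injective] at h
  exact h

theorem Good.sub {X : Subgroup G} {z : X} (h : Good p (z : G)) : Good p z := by
  refine ⟨by rw [← Subgroup.orderOf_coe]; exact h.1, fun g Q hQ hmem y hy => ?_⟩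
  have := h.2 (g : G) (Q.map X.subtype) (hQ.map _) ⟨_, hmem, rfl⟩ (y : G) ⟨y, hy, rfl⟩
  exact Subtype.ext this

theorem quot_hy [Finite G] [Fact p.Prime] (hH : Hy p G) (X : Subgroup G) :
    haveI := H1.pPrimeCore_normal' p X
    Hy p (X ⧸ pPrimeCore p X) := by
  haveI := H1.pPrimeCore_normal' p X
  set K := pPrimeCore p X
  set f := QuotientGroup.mk' K with hfdef
  have hf : Function.Surjective f := QuotientGroup.mk'_surjective _
  have hker : f.ker = K := QuotientGroup.ker_mk' K
  have hK : (Nat.card f.ker).Coprime p := by rw [hker]; exact H1.card_pPrimeCore_coprime p X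
  refine ⟨H10.pPrimeCore_quotient_pPrimeCore, fun x hx => ?_, fun x y hx hy => ?_⟩
  · obtain ⟨s, hs, rfl⟩ := exists_lift_order hf hK hx
    have hsp : ∃ k : ℕ, orderOf s = p ^ k := ⟨1, by rw [pow_one]; exact hs⟩
    let φ : ↥(centralizer ({s} : Set X)) →* ↥(centralizer ({f s} : Set (X ⧸ K))) :=
      (f.comp (centralizer ({s} : Set X)).subtype).codRestrict _ fun c =>
        mem_centralizer_singleton_iff.2 (by
          show f (c : X) * f s = f s * f (c : X)
          rw [← map_mul, ← map_mul, mem_centralizer_singleton_iff.1 c.2])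
    refine H5.hasNormalPComplement_of_surjective φ ?_ (nil_sub hH X hs)
    rintro ⟨y, hy⟩
    obtain ⟨y', rfl⟩ := hf y
    have hc : Commute (f y') (f s) := mem_centralizer_singleton_iff.1 hy
    have ho : y' * s * y'⁻¹ * s⁻¹ ∈ K := by
      rw [← hker, MonoidHom.mem_ker, map_mul, map_mul, map_mul, map_inv, map_inv, hc.eq]
      group
    obtain ⟨c, hcK, e⟩ := coset_conj (K := K) (H1.card_pPrimeCore_coprime p X) hsp
      (by rw [Subgroup.normalizer_eq_top]; trivial) ho (by
        rw [inv_mul_cancel_right, show y' * s * y'⁻¹ = (MulAut.conj y') s from rfl,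
          MulEquiv.orderOf_eq]
        exact hsp)
    rw [inv_mul_cancel_right] at e
    refine ⟨⟨c⁻¹ * y', mem_centralizer_singleton_iff.2 ?_⟩, Subtype.ext ?_⟩
    · calc c⁻¹ * y' * s = c⁻¹ * (y' * s * y'⁻¹) * y' := by group
        _ = c⁻¹ * (c * s * c⁻¹) * y' := by rw [e]
        _ = s * (c⁻¹ * y') := by group
    · show f (c⁻¹ * y') = f y'
      rw [map_mul, map_inv, (MonoidHom.mem_ker (f := f)).1 (by rw [hker]; exact hcK), inv_one,
        one_mul]
  · obtain ⟨s, hs, rfl⟩ := exists_lift_order hf hK hx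
    obtain ⟨t, ht, rfl⟩ := exists_lift_order hf hK hy
    have e : (closure ({s, t} : Set X)).map f = closure ({f s, f t} : Set (X ⧸ K)) := by
      rw [MonoidHom.map_closure, Set.image_pair]
    rw [← e]
    exact H10.isPSolvable_of_surjective (pair_solvable_sub hH X hs ht)
      (f.subgroupMap (closure ({s, t} : Set X))) (f.subgroupMap_surjective _)

theorem quot_good [Finite G] [Fact p.Prime] {X : Subgroup G} {z : X} (h : Good p (z : G)) :
    haveI := H1.pPrimeCore_normal' p X
    Good p (QuotientGroup.mk' (pPrimeCore p X) z) := by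
  haveI := H1.pPrimeCore_normal' p X
  set K := pPrimeCore p X
  set f := QuotientGroup.mk' K with hfdef
  have hK : (Nat.card f.ker).Coprime p := by
    rw [QuotientGroup.ker_mk']; exact H1.card_pPrimeCore_coprime p X
  have hz : Good p z := Good.sub h
  refine ⟨orderOf_eq_prime ?_ fun e => hz.ne_one
    (pow_eq_one_of_map_eq_one hK ⟨1, by rw [pow_one]; exact hz.1⟩ e), ?_⟩
  · rw [← map_pow, orderOf_dvd_iff_pow_eq_one.1 hz.1.dvd, map_one]
  intro g Q hQ hmem y hy
  obtain ⟨g', rfl⟩ := QuotientGroup.mk'_surjective K g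
  obtain ⟨R, hR⟩ := hQ.exists_le_sylow
  obtain ⟨T, rfl⟩ := Sylow.mapSurjective_surjective (p := p) (QuotientGroup.mk'_surjective K) R
  rw [Sylow.coe_mapSurjective] at hR
  obtain ⟨t, ht, hte⟩ := hR hmem
  obtain ⟨w, hw, rfl⟩ := hR hy
  set z' := g' * z * g'⁻¹ with hz'
  have hze : f z' = f t := by rw [hte, hz']; simp [hfdef]
  have hz'p : ∃ k : ℕ, orderOf z' = p ^ k :=
    ⟨1, by rw [pow_one, hz', show g' * z * g'⁻¹ = (MulAut.conj g') z from rfl,
      MulEquiv.orderOf_eq]; exact hz.1⟩
  have ho : z' * t⁻¹ ∈ K := by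
    rw [← QuotientGroup.ker_mk' K, MonoidHom.mem_ker, ← hfdef, map_mul, map_inv, hze,
      mul_inv_cancel]
  obtain ⟨c, -, e⟩ := coset_conj (K := K) (H1.card_pPrimeCore_coprime p X)
    (exists_pow_of_mem T.2 ht) (by rw [Subgroup.normalizer_eq_top]; trivial) ho
    (by rw [inv_mul_cancel_right]; exact hz'p)
  rw [inv_mul_cancel_right] at e
  have ht' : t = c⁻¹ * g' * z * (c⁻¹ * g')⁻¹ := by
    calc t = c⁻¹ * (c * t * c⁻¹) * c := by group
      _ = c⁻¹ * z' * c := by rw [e]
      _ = _ := by rw [hz']; group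
  have hcm := hz.2 (c⁻¹ * g') (T : Subgroup X) T.2 (ht' ▸ ht) w hw
  rw [← ht'] at hcm
  have h2 := hcm.map f
  rw [hte] at h2
  exact h2

/-- In a counterexample the Sylow subgroups are normal. -/
theorem all_normal : ∀ (n : ℕ) {G : Type u} [Group G] [Finite G] {p : ℕ} [Fact p.Prime],
    Nat.card G = n → p ≠ 2 → Hy p G → ∀ a : G, Good p a → ∀ S : Sylow p G,
      (S : Subgroup G).Normal := by
  intro n
  induction n using Nat.strong_induction_on with
  | _ n ih =>
    intro G _ _ p _ hn hp2 hH a₀ ha₀ P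
    by_contra hnn
    obtain ⟨c₀, -, hc₀⟩ := exists_cj_le_sylow P (K := ⊤) le_top
      (isPGroup_zpowers_of (k := 1) (by rw [pow_one]; exact ha₀.1)) (le_top (a := zpowers a₀))
    set a := c₀ * a₀ * c₀⁻¹
    have haP : a ∈ (P : Subgroup G) := hc₀ (image_mem_cj (mem_zpowers a₀) c₀)
    have ha : Good p a := ha₀.conj c₀
    -- elements of order `p` in normal subgroups of `P`
    have hexz : ∀ N : Subgroup G, N.Normal → N ⊓ (P : Subgroup G) ≠ ⊥ →
        ∃ z ∈ N, z ∈ (P : Subgroup G) ∧ Good p z := by
      intro N hN hne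
      haveI := hN
      haveI : (N.subgroupOf (P : Subgroup G)).Normal := H1.subgroupOf_normal N _
      have hne' : N.subgroupOf (P : Subgroup G) ≠ ⊥ := fun h => hne
        (disjoint_iff.1 (subgroupOf_eq_bot.1 h))
      have h1 := H30.inf_center_ne_bot (P.2 : IsPGroup p (P : Subgroup G)) inferInstance hne'
      obtain ⟨⟨⟨w, hw⟩, hwc⟩, hw1⟩ := (Subgroup.ne_bot_iff_exists_ne_one).1 h1
      have hw1' : w ≠ 1 := fun h => hw1 (by
        apply Subtype.ext; apply Subtype.ext; exact h)
      obtain ⟨k, hk⟩ := exists_pow_of_mem P.2 hw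
      obtain ⟨j, rfl⟩ : ∃ j, k = j + 1 := Nat.exists_eq_succ_of_ne_zero fun h =>
        hw1' (orderOf_eq_one_iff.1 (by rw [hk, h, pow_zero]))
      refine ⟨w ^ p ^ j, pow_mem hwc.1 _, pow_mem hw _,
        hH.good_of_central P haP ha ?_ (pow_mem hw _) fun y hy =>
          (show Commute y w from congrArg Subtype.val (mem_center_iff.1 hwc.2 ⟨y, hy⟩)).pow_right _⟩
      rw [orderOf_pow_of_dvd (pow_ne_zero _ (Fact.out : p.Prime).ne_zero)
        (hk ▸ pow_dvd_pow p j.le_succ), hk, pow_succ,
        Nat.mul_div_cancel_left _ (pow_pos (Fact.out : p.Prime).pos _)]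
    -- (i) no normal `p`-subgroups
    have hcore : pCore p G = ⊥ := by
      by_contra hne
      haveI := H1.pCore_normal' p G
      obtain ⟨z, hzN, hzP, hz⟩ := hexz _ inferInstance
        (by rwa [inf_eq_left.2 (H1.pCore_le_sylow P)])
      set W : Subgroup G := normalClosure ({z} : Set G)
      have hzW : z ∈ W := subset_normalClosure rfl
      have hWle : W ≤ centralizer ((P : Subgroup G) : Set G) := by
        rw [show W = closure (Group.conjugatesOfSet ({z} : Set G)) from rfl, closure_le]
        intro x hx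
        obtain ⟨w, hw, hc⟩ := Group.mem_conjugatesOfSet_iff.1 hx
        rw [Set.mem_singleton_iff] at hw
        subst hw
        have hxP : x ∈ (P : Subgroup G) := by
          obtain ⟨g, rfl⟩ := isConj_iff.1 hc
          exact H1.pCore_le_sylow P (Normal.conj_mem inferInstance w hzN g)
        exact mem_centralizer_iff.2 fun y hy => ((hz.of_isConj hc).commute P.2 hxP hy).eq
      set Y : Subgroup G := centralizer (W : Set G)
      have hPY : (P : Subgroup G) ≤ Y := fun x hx => mem_centralizer_iff.2 fun w hw =>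
        (mem_centralizer_iff.1 (hWle hw) x hx).symm
      have hY : HasNormalPComplement p Y :=
        H5.hasNormalPComplement_of_injective (inclusion (fun x hx =>
          mem_centralizer_singleton_iff.2 ((mem_centralizer_iff.1 hx z hzW).symm) :
            Y ≤ centralizer ({z} : Set G))) (inclusion_injective _) (hH.nil z hz.1)
      have hYnorm : Y.Normal := by
        haveI : W.Normal := normalClosure_normal
        infer_instance
      haveI := hYnorm
      have hres : pResidual p Y = ⊥ := by
        have h1 := (Hy.normal_sub hH Y).core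
        rw [← le_bot_iff, ← h1]
        exact H1.le_pPrimeCore ((Nat.Prime.coprime_iff_not_dvd Fact.out).2
          (H5.hasNormalPComplement_iff_not_dvd.1 hY)).symm
      have hYp : IsPGroup p Y := by
        obtain ⟨k, hk⟩ := H5.exists_index_pResidual_eq (G := Y) (p := p)
        rw [hres, index_bot] at hk
        exact IsPGroup.of_card hk
      exact hnn ((P.is_maximal' hYp hPY).symm ▸ hYnorm)
    -- (ii) simplicity
    haveI : Nontrivial G := ⟨⟨a, 1, ha.ne_one⟩⟩
    have hsimple : IsSimpleGroup G := by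
      refine ⟨fun N hN => ?_⟩
      haveI := hN
      by_contra hne
      push Not at hne
      have hNP : N ⊓ (P : Subgroup G) ≠ ⊥ := by
        intro h
        refine hne.1 (le_bot_iff.1 (le_trans (H1.le_pPrimeCore ?_) hH.core.le))
        refine ((Nat.Prime.coprime_iff_not_dvd Fact.out).2 fun hd => ?_).symm
        obtain ⟨x, hx⟩ := exists_prime_orderOf_dvd_card' (G := N) p hd
        obtain ⟨c, -, hc⟩ := exists_cj_le_sylow P (K := ⊤) le_top
          (isPGroup_zpowers_of (x := (x : G)) (k := 1) (by rw [pow_one, Subgroup.orderOf_coe]; exact hx))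
          (le_top (a := zpowers (x : G)))
        have hmem : c * (x : G) * c⁻¹ ∈ N ⊓ (P : Subgroup G) :=
          ⟨Normal.conj_mem hN _ x.2 c, hc (image_mem_cj (mem_zpowers _) c)⟩
        rw [h, Subgroup.mem_bot, conj_eq_one_iff, OneMemClass.coe_eq_one] at hmem
        rw [hmem, orderOf_one] at hx
        exact (Fact.out : p.Prime).ne_one hx.symm
      obtain ⟨z, hzN, -, hz⟩ := hexz N hN hNP
      have hlt : Nat.card N < n := by
        rw [← hn]
        exact lt_of_le_of_ne (Subgroup.card_le_card_group N)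
          fun e => hne.2 (Subgroup.eq_top_of_card_eq N e)
      obtain ⟨T⟩ := (inferInstance : Nonempty (Sylow p N))
      haveI hT := ih _ hlt rfl hp2 (hH.normal_sub N) (⟨z, hzN⟩ : N) (Good.sub hz) T
      haveI := T.characteristic_of_normal hT
      haveI : ((T : Subgroup N).map N.subtype).Normal :=
        H1.map_subtype_normal_of_characteristic N (T : Subgroup N)
      have hle : (T : Subgroup N).map N.subtype ≤ ⊥ :=
        (H1.le_pCore (T.2.map _)).trans hcore.le
      rw [le_bot_iff, map_eq_bot_iff_of_injective _ N.subtype_injective] at hle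
      exact T.ne_bot_of_dvd_card (by
        rw [← hz.1, show orderOf z = orderOf (⟨z, hzN⟩ : N) from
          (Subgroup.orderOf_mk z hzN).symm]
        exact orderOf_dvd_natCard _) hle
    have hcenter : center G = ⊥ := by
      haveI := hsimple
      refine (hsimple.eq_bot_or_eq_top_of_normal (center G) inferInstance).resolve_right fun h => hnn ?_
      exact ⟨fun x hx g => by
        rwa [mem_center_iff.1 (h ▸ Subgroup.mem_top x : x ∈ center G) g, mul_inv_cancel_right]⟩
    have hCtx : Ctx p P := by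
      refine ⟨hp2, hH, hsimple, hcenter, fun x hx h1 => hH.good_of_central P haP ha
        (orderOf_eq_prime hx.2.1 h1) hx.1 hx.2.2, ?_, ?_⟩
      · intro h
        refine ha.ne_one ((Subgroup.mem_bot (x := a)).1 (h ▸ ?_))
        exact ⟨haP, by rw [← ha.1, pow_orderOf_eq_one], fun y hy => (ha.commute P.2 haP hy).eq⟩
      · rintro X hX ⟨z, hzX, hz⟩
        haveI := H1.pPrimeCore_normal' p X
        refine split_of_normal fun S => ?_
        have hlt : Nat.card (X ⧸ pPrimeCore p X) < n := by
          rw [← hn]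
          exact lt_of_le_of_lt (Nat.le_of_dvd Nat.card_pos (card_quotient_dvd_card _))
            (lt_of_le_of_ne (Subgroup.card_le_card_group X)
              fun e => hX (Subgroup.eq_top_of_card_eq X e))
        exact ih _ hlt rfl hp2 (quot_hy hH X) _ (quot_good (z := ⟨z, hzX⟩) hz) S
    exact hCtx.false

end H70.GI

namespace H61.GI

open H70.GI H70

/-- The odd case. -/
theorem odd_false {G : Type*} [Group G] [Finite G] {p : ℕ} [Fact p.Prime] (hp : p ≠ 2)
    (hcore : Cfsg.pPrimeCore p G = ⊥) (P : Sylow p G) (hnn : ¬ (P : Subgroup G).Normal)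
    (ha : ∀ x ∈ (P : Subgroup G), ∀ y ∈ (P : Subgroup G), (∃ g : G, g * x * g⁻¹ = y) →
      ∃ n ∈ Subgroup.normalizer ((P : Subgroup G) : Set G), n * x * n⁻¹ = y)
    (hb : ∀ x ∈ (P : Subgroup G), orderOf x = p →
      Cfsg.HasNormalPComplement p ↥(Subgroup.centralizer ({x} : Set G)))
    (hc : ∀ x y : G, orderOf x = p → orderOf y = p →
      Cfsg.IsPSolvable p ↥(Subgroup.closure ({x, y} : Set G))) : False := by
  have hnil : ∀ x : G, orderOf x = p →
      HasNormalPComplement p ↥(Subgroup.centralizer ({x} : Set G)) := by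
    intro x hx
    obtain ⟨c, -, hcx⟩ := exists_cj_le_sylow P (K := ⊤) le_top
      (isPGroup_zpowers_of (x := x) (k := 1) (by rw [pow_one]; exact hx))
      (le_top (a := Subgroup.zpowers x))
    have hmem : c * x * c⁻¹ ∈ (P : Subgroup G) :=
      hcx (image_mem_cj (Subgroup.mem_zpowers x) c)
    have h := hb _ hmem (by
      rw [show c * x * c⁻¹ = (MulAut.conj c) x from rfl, MulEquiv.orderOf_eq]; exact hx)
    let φ : ↥(Subgroup.centralizer ({x} : Set G)) →*
        ↥(Subgroup.centralizer ({c * x * c⁻¹} : Set G)) :=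
      ((MulAut.conj c).toMonoidHom.comp (Subgroup.centralizer ({x} : Set G)).subtype).codRestrict _
        fun t => Subgroup.mem_centralizer_singleton_iff.2 (by
          show MulAut.conj c (t : G) * MulAut.conj c x = MulAut.conj c x * MulAut.conj c (t : G)
          rw [← map_mul, ← map_mul, Subgroup.mem_centralizer_singleton_iff.1 t.2])
    refine H5.hasNormalPComplement_of_injective φ ?_ h
    intro s t e
    exact Subtype.ext ((MulAut.conj c).injective
      (congrArg (fun r : Subgroup.centralizer ({c * x * c⁻¹} : Set G) => (r : G)) e))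
  have hH : Hy p G := ⟨hcore, hnil, hc⟩
  have hne : (P : Subgroup G) ≠ ⊥ := fun h => hnn (by rw [h]; infer_instance)
  haveI : Nontrivial (P : Subgroup G) := (Subgroup.nontrivial_iff_ne_bot _).2 hne
  have hdvd : p ∣ Nat.card (Subgroup.center (P : Subgroup G)) := by
    rcases (P.2.to_subgroup (Subgroup.center (P : Subgroup G))).card_eq_or_dvd with h | h
    · exact absurd (Subgroup.card_eq_one.1 h) P.2.bot_lt_center.ne'
    · exact h
  obtain ⟨w, hw⟩ := exists_prime_orderOf_dvd_card' p hdvd
  set a : G := ((w : (P : Subgroup G)) : G) with hadef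
  have hao : orderOf a = p := by
    rw [hadef, Subgroup.orderOf_coe, Subgroup.orderOf_coe]; exact hw
  have hac : ∀ y ∈ (P : Subgroup G), y * a = a * y := fun y hy =>
    congrArg Subtype.val (Subgroup.mem_center_iff.1 w.2 ⟨y, hy⟩)
  have hgood : Good p a := by
    refine good_of_forall P hao fun g hg y hy => ?_
    obtain ⟨n, hn, e⟩ := ha a (w : (P : Subgroup G)).2 _ hg ⟨g, rfl⟩
    rw [← e]
    have hy' : n⁻¹ * y * n ∈ (P : Subgroup G) :=
      (Subgroup.mem_set_normalizer_iff.mp hn _).mpr (by
        rw [show n * (n⁻¹ * y * n) * n⁻¹ = y by group]; exact hy)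
    show y * (n * a * n⁻¹) = n * a * n⁻¹ * y
    calc y * (n * a * n⁻¹) = n * (n⁻¹ * y * n * a) * n⁻¹ := by group
      _ = n * (a * (n⁻¹ * y * n)) * n⁻¹ := by rw [hac _ hy']
      _ = n * a * n⁻¹ * y := by group
  exact hnn (all_normal _ rfl hp hH a hgood P)

end H61.GI
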