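import Cfsg.Agent.H70.GI.Moments
import Cfsg.Agent.H12.Linear
import Cfsg.Agent.H20.OrthConv

/-!
Values on `A` and bounds for the multiplicity of the trivial character and for the number of
`p`-regular products.
-/

set_option autoImplicit false
set_option linter.style.haveILetI false
set_option linter.unusedSectionVars false

open Subgroup Cfsg Module
open scoped ComplexConjugate

namespace H70.GI.Ctx

open H31.EXO H70

universe u

variable {G : Type u} [Group G] [Fintype G] {p : ℕ} [Fact p.Prime] {M : Ideal AlgInt} [M.IsPrime]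
  {P : Sylow p G} [Fintype (omegaC P)] [DecidableEq (omegaC P)]

theorem oneIrr_mem_block :
    H12.oneIrr G ∈ H22.blockFinset (principalBlock M G) :=
  H22.mem_blockFinset.2 (H20.mem_blockOf_self (H12.oneIrr G))

theorem sum_univ_eq_zero {χ : IrrCharacter G} (hχ : χ ≠ H12.oneIrr G) :
    ∑ x : G, (χ : G → ℂ) x = 0 := by
  have h1 := H12.classInner_irr_ne hχ
  simpa [H12.classInner_def, H12.oneIrr_apply, H12.card_ne_zero'] using h1

theorem norm_le (χ : IrrCharacter G) (x : G) :
    ‖(χ : G → ℂ) x‖ ≤ (H12.degree (χ : G → ℂ) : ℝ) := by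
  obtain ⟨n, ρ, _, he⟩ := χ.2
  rw [← he, H12.degree_character]
  exact H12.norm_character_le (ρ := ρ) x

theorem degree_pos' (χ : IrrCharacter G) : (0 : ℝ) < (H12.degree (χ : G → ℂ) : ℝ) :=
  Nat.cast_pos.2 (H12.irr_degree_pos χ)

theorem tv_int (χ : IrrCharacter G) :
    tv χ P = (((Nat.card (omegaC P) * mult χ P : ℕ) : ℤ) - (H12.degree (χ : G → ℂ) : ℤ) : ℤ) := by
  rw [tv]; push_cast; ring

theorem rho_mul (χ : IrrCharacter G) :
    rho χ P * (H12.degree (χ : G → ℂ) : ℝ) = tv χ P + (H12.degree (χ : G → ℂ) : ℝ) := by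
  rw [rho, tv, div_mul_cancel₀ _ (degree_pos' χ).ne', sub_add_cancel]

theorem rho_le_of {χ : IrrCharacter G} {c : ℝ}
    (h : (mult χ P : ℝ) ≤ c * (H12.degree (χ : G → ℂ) : ℝ)) :
    rho χ P ≤ (Nat.card (omegaC P) : ℝ) * c := by
  rw [rho, div_le_iff₀ (degree_pos' χ), mul_assoc]
  exact mul_le_mul_of_nonneg_left h (Nat.cast_nonneg _)

theorem rho_nonneg (χ : IrrCharacter G) : 0 ≤ rho χ P :=
  div_nonneg (mul_nonneg (Nat.cast_nonneg _) (Nat.cast_nonneg _)) (Nat.cast_nonneg _)

theorem one_values :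
    mult (H12.oneIrr G) P = 1 ∧ tv (H12.oneIrr G) P = (Nat.card (omegaC P) : ℝ) - 1 ∧
      rho (H12.oneIrr G) P = (Nat.card (omegaC P) : ℝ) ∧
      H12.degree (H12.oneIrr G : G → ℂ) = 1 := by
  have hd : H12.degree (H12.oneIrr G : G → ℂ) = 1 := by
    have h := H12.irr_apply_one (H12.oneIrr G)
    rw [H12.oneIrr_apply] at h
    exact_mod_cast h.symm
  have hm : mult (H12.oneIrr G) P = 1 := by
    have h := sum_all (P := P) (H12.oneIrr G)
    simp only [H12.oneIrr_apply, Finset.sum_const, Finset.card_univ, nsmul_eq_mul, mul_one,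
      ← Nat.card_eq_fintype_card] at h
    exact_mod_cast ((mul_eq_left₀ (Nat.cast_ne_zero.2 Nat.card_pos.ne')).1 h.symm :
      (mult (H12.oneIrr G) P : ℂ) = 1)
  refine ⟨hm, ?_, ?_, hd⟩
  · rw [tv, hm, hd, Nat.cast_one, mul_one]
  · rw [rho, hm, hd, Nat.cast_one, mul_one, div_one]

/-- The multiplicity in a conjugate. -/
theorem sum_cj (χ : IrrCharacter G) (g : G) [Fintype (cj g (omegaC P))] :
    ∑ v : cj g (omegaC P), (χ : G → ℂ) v = ∑ v : omegaC P, (χ : G → ℂ) v := by
  refine (Fintype.sum_equiv (equivMapOfInjective (omegaC P) (MulAut.conj g).toMonoidHom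
    (MulAut.conj g).injective).toEquiv _ _ fun v => ?_).symm
  exact (H12.irr_isClassFunction χ (v : G) g).symm

/-- Two conjugates generating the group. -/
theorem two_mult_le {χ : IrrCharacter G} (hχ : χ ≠ H12.oneIrr G) {g : G}
    (htop : omegaC P ⊔ cj g (omegaC P) = ⊤) : 2 * mult χ P ≤ H12.degree (χ : G → ℂ) := by
  have hA := sum_all (P := P) χ
  haveI : Fintype (cj g (omegaC P)) := Fintype.ofFinite _
  have hB := (sum_cj (P := P) χ g).trans hA
  have hsum := sum_univ_eq_zero hχ
  obtain ⟨n, ρ, hρ, he⟩ := χ.2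
  rw [← he] at hsum hA hB ⊢
  rw [H12.degree_character, finrank_fin_fun]
  set W : Subgroup G → Submodule ℂ (Fin n → ℂ) :=
    fun A => Representation.invariants (ρ.comp A.subtype) with hW
  have hdim : ∀ (A : Subgroup G) [Fintype A],
      ∑ v : A, ρ.character (v : G) = (Nat.card A : ℂ) * (finrank ℂ (W A) : ℂ) := fun A _ => by
    haveI : Invertible (Nat.card A : ℂ) := invertibleOfNonzero H12.card_ne_zero'
    rw [hW, ← Representation.card_inv_mul_sum_char_eq_finrank,
      mul_inv_cancel_left₀ H12.card_ne_zero']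
    rfl
  have hinv : Representation.invariants ρ = ⊥ := by
    haveI : Invertible (Nat.card G : ℂ) := invertibleOfNonzero H12.card_ne_zero'
    have h1 := Representation.card_inv_mul_sum_char_eq_finrank ρ
    rw [hsum, mul_zero] at h1
    exact Submodule.finrank_eq_zero.1 (by exact_mod_cast h1.symm)
  have h2 : W (omegaC P) ⊓ W (cj g (omegaC P)) = ⊥ := by
    rw [← le_bot_iff, ← hinv]
    intro x hx
    let T : Subgroup G :=
      { carrier := {y | ρ y x = x}
        one_mem' := by simp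
        mul_mem' := fun {a b} (ha : ρ a x = x) (hb : ρ b x = x) => show ρ (a * b) x = x by
          rw [map_mul, Module.End.mul_apply, hb, ha]
        inv_mem' := fun {a} (ha : ρ a x = x) => show ρ a⁻¹ x = x by
          conv_lhs => rw [← ha]
          rw [← Module.End.mul_apply, ← map_mul, inv_mul_cancel, map_one, Module.End.one_apply] }
    have hT : omegaC P ⊔ cj g (omegaC P) ≤ T :=
      sup_le (fun y hy => hx.1 ⟨y, hy⟩) fun y hy => hx.2 ⟨y, hy⟩
    rw [htop] at hT
    exact fun y => hT (Subgroup.mem_top y)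
  have hne : (Nat.card (omegaC P) : ℂ) ≠ 0 := Nat.cast_ne_zero.2 Nat.card_pos.ne'
  have e1 : finrank ℂ (W (omegaC P)) = mult χ P := by
    exact_mod_cast mul_left_cancel₀ hne ((hdim (omegaC P)).symm.trans hA)
  have e2 : finrank ℂ (W (cj g (omegaC P))) = mult χ P := by
    have h := (hdim (cj g (omegaC P))).symm.trans hB
    rw [card_cj] at h
    exact_mod_cast mul_left_cancel₀ hne h
  have e := Submodule.finrank_sup_add_finrank_inf_eq (W (omegaC P)) (W (cj g (omegaC P)))
  have l := Submodule.finrank_le (W (omegaC P) ⊔ W (cj g (omegaC P)))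
  rw [h2, finrank_bot, e1, e2] at e
  rw [finrank_fin_fun] at l
  omega

/-- Three conjugates generating the group. -/
theorem three_mult_le {χ : IrrCharacter G} (hχ : χ ≠ H12.oneIrr G) {g h : G}
    (htop : omegaC P ⊔ cj g (omegaC P) ⊔ cj h (omegaC P) = ⊤) :
    3 * mult χ P ≤ 2 * H12.degree (χ : G → ℂ) := by
  obtain ⟨m, hm, hle⟩ := H68.EC.exists_fixed_dim χ hχ (omegaC P) htop
  rw [sum_all] at hm
  have : (mult χ P : ℕ) = m := by
    exact_mod_cast mul_left_cancel₀ (Nat.cast_ne_zero.2 Nat.card_pos.ne') hm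
  omega

variable (C : Ctx p P)
include C

/-- No element of a non-trivial representation of `G` other than `1` is a scalar. -/
theorem norm_ne {χ : IrrCharacter G} (hχ : χ ≠ H12.oneIrr G) {x : G} (hx : x ≠ 1) :
    ‖(χ : G → ℂ) x‖ ≠ (H12.degree (χ : G → ℂ) : ℝ) := by
  intro h
  have hsum := sum_univ_eq_zero hχ
  have hd := H12.irr_degree_pos χ
  obtain ⟨n, ρ, hρ, he⟩ := χ.2
  rw [← he] at hsum hd h
  rw [H12.degree_character] at hd h
  obtain ⟨ω, hω⟩ := H12.exists_scalar_of_norm_eq ρ x h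
  haveI := C.simple
  rcases C.simple.eq_bot_or_eq_top_of_normal ρ.ker inferInstance with hk | hk
  · refine hx ((eq_bot_iff.1 C.noncomm) (mem_center_iff.2 fun g => ?_))
    refine (MonoidHom.ker_eq_bot_iff ρ).1 hk ?_
    rw [map_mul, map_mul, hω]
    ext v
    simp
  · have hall : ∀ g : G, ρ.character g = (finrank ℂ (Fin n → ℂ) : ℂ) := fun g => by
      have h1 : ρ g = 1 := MonoidHom.mem_ker.1 (hk ▸ Subgroup.mem_top g)
      show LinearMap.trace ℂ _ (ρ g) = _
      rw [h1, LinearMap.trace_one]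
    simp only [hall, Finset.sum_const, Finset.card_univ, nsmul_eq_mul, mul_eq_zero,
      Nat.cast_eq_zero, Fintype.card_ne_zero, false_or] at hsum
    omega

theorem exists_ne_one' : ∃ a : omegaC P, (a : G) ≠ 1 := by
  obtain ⟨a, ha⟩ := (Subgroup.ne_bot_iff_exists_ne_one).1 C.nontriv
  exact ⟨a, by simpa using ha⟩

theorem mult_lt {χ : IrrCharacter G} (hχ : χ ≠ H12.oneIrr G) :
    mult χ P < H12.degree (χ : G → ℂ) := by
  obtain ⟨a, ha⟩ := C.exists_ne_one'
  have h1 : ‖∑ v : omegaC P, (χ : G → ℂ) v‖ <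
      ∑ _v : omegaC P, (H12.degree (χ : G → ℂ) : ℝ) :=
    (norm_sum_le _ _).trans_lt (Finset.sum_lt_sum (fun v _ => norm_le χ (v : G))
      ⟨a, Finset.mem_univ _, (norm_le χ (a : G)).lt_of_ne (C.norm_ne hχ ha)⟩)
  rw [sum_all, Finset.sum_const, Finset.card_univ, nsmul_eq_mul, ← Nat.card_eq_fintype_card,
    norm_mul, Complex.norm_natCast, Complex.norm_natCast] at h1
  exact_mod_cast lt_of_mul_lt_mul_left h1 (Nat.cast_nonneg _)

open Classical in
/-- A fibre of the map to classes. -/
theorem fiber_card {c : ConjClasses G}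
    (hc : c ∈ (Finset.univ.erase (1 : omegaC P)).image fun v : omegaC P => ConjClasses.mk (v : G)) :
    ((Finset.univ.erase (1 : omegaC P)).filter fun v : omegaC P =>
      ConjClasses.mk (v : G) = c).card = ee P := by
  obtain ⟨w, hw, rfl⟩ := Finset.mem_image.1 hc
  have hw1 : (w : G) ≠ 1 := fun h => Finset.ne_of_mem_erase hw (Subtype.ext h)
  rw [ee, ← C.card_class_eq w.2 hw1, Nat.card_eq_fintype_card, Fintype.card_subtype]
  congr 1
  ext v
  simp only [Finset.mem_filter, Finset.mem_erase, Finset.mem_univ, and_true, true_and,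
    ConjClasses.mk_eq_mk_iff_isConj]
  refine ⟨fun h => h.2.symm, fun h => ⟨fun e => hw1 ?_, h.symm⟩⟩
  rw [e, OneMemClass.coe_one, isConj_one_left] at h
  exact h

open Classical in
theorem card_sub_one : Nat.card (omegaC P) - 1 =
    ((Finset.univ.erase (1 : omegaC P)).image fun v : omegaC P => ConjClasses.mk (v : G)).card *
      ee P := by
  rw [Nat.card_eq_fintype_card, ← Finset.card_univ,
    ← Finset.card_erase_of_mem (Finset.mem_univ (1 : omegaC P)),
    Finset.card_eq_sum_card_image fun v : omegaC P => ConjClasses.mk (v : G),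
    Finset.sum_congr rfl fun c hc => C.fiber_card hc, Finset.sum_const, smul_eq_mul]

theorem ee_pos : 0 < ee P := by
  rcases Nat.eq_zero_or_pos (ee P) with h | h
  · exfalso
    have h1 := C.card_sub_one
    rw [h, mul_zero] at h1
    obtain ⟨a, ha⟩ := C.exists_ne_one'
    haveI : Nontrivial (omegaC P) := ⟨⟨a, 1, fun e => ha (congrArg Subtype.val e)⟩⟩
    have := Finite.one_lt_card (α := omegaC P)
    omega
  · exact h

/-- The values sum to a multiple of the class size. -/
theorem exists_tv_eq (χ : IrrCharacter G) : ∃ s : ℤ, tv χ P = (ee P : ℝ) * (s : ℝ) := by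
  classical
  set I := (Finset.univ.erase (1 : omegaC P)).image fun v : omegaC P => ConjClasses.mk (v : G)
  have h : (tv χ P : ℂ) = (ee P : ℂ) * ∑ c ∈ I, (χ : G → ℂ) (Quotient.out c) := by
    rw [← sum_erase, ← Finset.sum_fiberwise_of_maps_to
      (g := fun v : omegaC P => ConjClasses.mk (v : G)) (t := I)
      fun v hv => Finset.mem_image_of_mem _ hv, Finset.mul_sum]
    refine Finset.sum_congr rfl fun c hc => ?_
    rw [← C.fiber_card hc, ← nsmul_eq_mul, ← Finset.sum_const]
    refine Finset.sum_congr rfl fun v hv => ?_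
    have hv' : ConjClasses.mk (v : G) = c := (Finset.mem_filter.1 hv).2
    exact H12.IsClassFunction.of_isConj (H12.irr_isClassFunction χ)
      (ConjClasses.mk_eq_mk_iff_isConj.1 (hv'.trans (Quotient.out_eq c).symm))
  have hint : IsIntegral ℤ (∑ c ∈ I, (χ : G → ℂ) (Quotient.out c)) :=
    IsIntegral.sum _ fun c _ => H20.isIntegral_irr χ _
  have he : (ee P : ℂ) ≠ 0 := Nat.cast_ne_zero.2 C.ee_pos.ne'
  set z : ℤ := ((Nat.card (omegaC P) * mult χ P : ℕ) : ℤ) - (H12.degree (χ : G → ℂ) : ℤ) with hz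
  have hzC : (tv χ P : ℂ) = (z : ℂ) := by rw [tv_int]; exact Complex.ofReal_intCast _
  obtain ⟨s, hs⟩ := H12.exists_int_of_isIntegral_rat (q := (z : ℚ) / (ee P : ℚ)) (by
    have e : (((z : ℚ) / (ee P : ℚ) : ℚ) : ℂ) = ∑ c ∈ I, (χ : G → ℂ) (Quotient.out c) := by
      push_cast
      rw [← hzC, h, mul_div_cancel_left₀ _ he]
    rw [e]; exact hint)
  refine ⟨s, ?_⟩
  rw [eq_div_iff (Nat.cast_ne_zero.2 C.ee_pos.ne')] at hs
  have h2 : s * (ee P : ℤ) = z := by exact_mod_cast hs
  rw [tv_int, ← hz, ← h2]; push_cast; ring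

open Classical in
theorem regCount_le {w : omegaC P} (hw : (w : G) ≠ 1) (g : G) :
    C.regCount w g ≤ ee P := by
  rw [regCount, ee, ← C.card_class_eq (inv_mem w.2) (inv_ne_one.2 hw), Nat.card_eq_fintype_card,
    Fintype.card_subtype]
  refine Finset.card_le_card fun k hk => ?_
  simp only [Finset.mem_filter, Finset.mem_univ, true_and] at hk ⊢
  obtain ⟨k1, -, hc, hc2⟩ := C.key w.2 hw k.2 g
  rw [H20.pPart_eq_one_iff.2 hk, isConj_one_right] at hc2
  rw [← eq_inv_of_mul_eq_one_right hc2]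
  exact hc.symm

theorem reg_ne_one {w : omegaC P} (hw : (w : G) ≠ 1) {g : G} {k : omegaC P}
    (hk : ¬ p ∣ orderOf ((w : G) * (g * k * g⁻¹))) : (k : G) ≠ 1 := by
  intro h
  refine hk ?_
  rw [h, mul_one, mul_inv_cancel, mul_one, order_eq w.2 hw]

/-- Two regular products with powers of the same element. -/
theorem reg_pow {w : omegaC P} (hw : (w : G) ≠ 1) {g : G} {l : omegaC P} {i : ℤ}
    (h1 : ¬ p ∣ orderOf ((w : G) * (g * l * g⁻¹)))
    (h2 : ¬ p ∣ orderOf ((w : G) * (g * ((l ^ i : omegaC P) : G) * g⁻¹))) :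
    l ^ (i - 1) = 1 := by
  have hl := C.reg_ne_one hw h1
  set y := g * (l : G) * g⁻¹ with hy
  have hyo : orderOf y = p := ((C.good l l.2 hl).conj g).1
  set X := closure ({(w : G), y} : Set G)
  have hX : X ≠ ⊤ := C.pair_ne_top (order_eq w.2 hw) hyo
  have hwX : (w : G) ∈ X := subset_closure (by simp)
  have hyX : y ∈ X := subset_closure (by simp)
  have hyi : g * ((l ^ i : omegaC P) : G) * g⁻¹ = y ^ i := by
    rw [hy, conj_zpow, SubgroupClass.coe_zpow]
  rw [hyi] at h2
  have hp1 : ∃ k : ℕ, orderOf y = p ^ k := ⟨1, by rw [pow_one]; exact hyo⟩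
  have m1 := C.reg_mem hX w.2 hw hwX hyX hp1 h1
  have m2 := C.reg_mem hX w.2 hw hwX (zpow_mem hyX i)
    (exists_pow_of_pow_eq (i := 1) (by
      rw [pow_one, ← zpow_natCast, ← zpow_mul, mul_comm, zpow_mul, zpow_natCast, ← hyo,
        pow_orderOf_eq_one, one_zpow])) h2
  have m3 : y ^ (i - 1) ∈ coreIn p X := by
    have h := mul_mem (inv_mem m1) m2
    rwa [mul_inv_rev, mul_assoc, inv_mul_cancel_left,
      show y⁻¹ * y ^ i = y ^ (i - 1) by group] at h
  have h3 : y ^ (i - 1) = 1 :=
    eq_one_of_mem (isPGroup_zpowers_of (x := y) (k := 1) (by rw [pow_one]; exact hyo))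
      (coprime_coreIn X) (zpow_mem (mem_zpowers y) _) m3
  rw [hy, conj_zpow, conj_eq_one_iff] at h3
  exact Subtype.ext (by rw [SubgroupClass.coe_zpow, OneMemClass.coe_one, h3])

open Classical in
theorem two_regCount_le (h2 : 2 ∣ ee P) {w : omegaC P} (hw : (w : G) ≠ 1) (g : G) :
    2 * C.regCount w g ≤ ee P := by
  set R := (Finset.univ : Finset (omegaC P)).filter fun k : omegaC P =>
    ¬ p ∣ orderOf ((w : G) * (g * k * g⁻¹)) with hR
  have hE : C.regCount w g = R.card := rfl
  have hdis : Disjoint R (R.image fun k => k⁻¹) := by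
    rw [Finset.disjoint_left]
    intro k hk hk'
    obtain ⟨l, hl, rfl⟩ := Finset.mem_image.1 hk'
    simp only [hR, Finset.mem_filter, Finset.mem_univ, true_and] at hk hl
    have h := C.reg_pow hw (i := -1) hl (by rw [zpow_neg_one]; exact hk)
    refine C.reg_ne_one hw hl ?_
    have hpow : (l : G) ^ 2 = 1 := by
      have h' := congrArg Subtype.val h
      rw [SubgroupClass.coe_zpow, OneMemClass.coe_one, show (-1 - 1 : ℤ) = -((2 : ℕ) : ℤ) by norm_num,
        zpow_neg, zpow_natCast, inv_eq_one] at h'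
      exact h'
    have h1 : orderOf (l : G) ∣ 2 := orderOf_dvd_of_pow_eq_one hpow
    rw [order_eq l.2 (C.reg_ne_one hw hl)] at h1
    exact absurd ((Nat.prime_dvd_prime_iff_eq Fact.out Nat.prime_two).1 h1) C.two_ne
  have hsub : R ∪ R.image (fun k => k⁻¹) ⊆ (Finset.univ : Finset (omegaC P)).filter
      fun k : omegaC P => IsConj ((w : G)⁻¹) (k : G) := by
    have hR' : ∀ k ∈ R, IsConj ((w : G)⁻¹) (k : G) := by
      intro k hk
      simp only [hR, Finset.mem_filter, Finset.mem_univ, true_and] at hk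
      obtain ⟨k1, -, hc, hc2⟩ := C.key w.2 hw k.2 g
      rw [H20.pPart_eq_one_iff.2 hk, isConj_one_right] at hc2
      rw [← eq_inv_of_mul_eq_one_right hc2]
      exact hc.symm
    intro k hk
    simp only [Finset.mem_filter, Finset.mem_univ, true_and]
    rcases Finset.mem_union.1 hk with h | h
    · exact hR' k h
    · obtain ⟨l, hl, rfl⟩ := Finset.mem_image.1 h
      exact (hR' l hl).trans (C.isConj_inv h2 l.2)
  have hcard := Finset.card_le_card hsub
  rw [Finset.card_union_of_disjoint hdis, Finset.card_image_of_injective _ inv_injective] at hcard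
  rw [hE, ee, ← C.card_class_eq (inv_mem w.2) (inv_ne_one.2 hw), Nat.card_eq_fintype_card,
    Fintype.card_subtype]
  omega

open Classical in
theorem pow_regCount_le {w : omegaC P} (hw : (w : G) ≠ 1) (g : G) :
    (p - 1) * C.regCount w g ≤ Nat.card (omegaC P) - 1 := by
  set R := (Finset.univ : Finset (omegaC P)).filter fun k : omegaC P =>
    ¬ p ∣ orderOf ((w : G) * (g * k * g⁻¹)) with hR
  have hp := (Fact.out : p.Prime)
  have hord : ∀ k : omegaC P, k ∈ R → orderOf k = p := fun k hk => by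
    simp only [hR, Finset.mem_filter, Finset.mem_univ, true_and] at hk
    rw [← Subgroup.orderOf_coe, order_eq k.2 (C.reg_ne_one hw hk)]
  have h := Finset.card_le_card_of_injOn (s := R ×ˢ Finset.Ico 1 p)
    (t := Finset.univ.erase (1 : omegaC P)) (fun x => x.1 ^ x.2) ?_ ?_
  · rw [Finset.card_product, Nat.card_Ico, Finset.card_erase_of_mem (Finset.mem_univ _),
      Finset.card_univ, ← Nat.card_eq_fintype_card] at h
    rw [mul_comm]
    exact h
  · rintro ⟨k, i⟩ hx
    obtain ⟨hk, hi⟩ := Finset.mem_product.1 hx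
    rw [Finset.mem_Ico] at hi
    refine Finset.mem_erase.2 ⟨fun h1 => ?_, Finset.mem_univ _⟩
    have hd := orderOf_dvd_of_pow_eq_one h1
    rw [hord k hk] at hd
    have := Nat.le_of_dvd (by omega) hd
    omega
  · rintro ⟨k, i⟩ hx ⟨l, j⟩ hy (e : k ^ i = l ^ j)
    obtain ⟨hk, hi⟩ := Finset.mem_product.1 hx
    obtain ⟨hl, hj⟩ := Finset.mem_product.1 hy
    rw [Finset.mem_Ico] at hi hj
    obtain ⟨a, b, hab⟩ : ∃ a b : ℤ, (i : ℤ) * a + (p : ℤ) * b = 1 := by
      have hco : Nat.Coprime i p := ((Nat.Prime.coprime_iff_not_dvd hp).2 fun hd => by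
        have := Nat.le_of_dvd (by omega) hd
        omega).symm
      refine ⟨Nat.gcdA i p, Nat.gcdB i p, ?_⟩
      have h := Nat.gcd_eq_gcd_ab i p
      rw [hco.gcd_eq_one] at h
      exact_mod_cast h.symm
    have hkl : k = l ^ ((j : ℤ) * a) := by
      calc k = k ^ ((i : ℤ) * a + (p : ℤ) * b) := by rw [hab, zpow_one]
        _ = (k ^ (i : ℤ)) ^ a * (k ^ (p : ℤ)) ^ b := by rw [zpow_add, zpow_mul, zpow_mul]
        _ = l ^ ((j : ℤ) * a) := by
          have hkp : k ^ p = 1 := orderOf_dvd_iff_pow_eq_one.1 (hord k hk).dvd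
          rw [zpow_natCast k p, hkp, one_zpow, mul_one, zpow_natCast, e, zpow_mul, zpow_natCast]
    have hk' := hk
    have hl' := hl
    simp only [hR, Finset.mem_filter, Finset.mem_univ, true_and] at hk' hl'
    rw [hkl] at hk'
    have h1 := C.reg_pow hw hl' hk'
    have hkl' : k = l := by rw [hkl, ← mul_inv_eq_one, ← h1, zpow_sub_one]
    subst hkl'
    have hij : i = j := pow_injOn_Iio_orderOf (x := k)
      (by rw [Set.mem_Iio, hord k hk]; omega) (by rw [Set.mem_Iio, hord k hk]; omega) e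
    rw [hij]

end H70.GI.Ctx
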